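import Groth.Prelude.Def_FDesc
import Groth.Agent.Divis.IdealComap
import Mathlib.AlgebraicGeometry.IdealSheaf.Functorial
import Mathlib.AlgebraicGeometry.Morphisms.Flat
import Mathlib.RingTheory.TensorProduct.IsBaseChangeFree

/-!
# The reduced closed subscheme on the closure of a family of images and field extensions

* `coeff_map_eq_zero`, `mem_map_of_coeff`: coefficients of elements of `A ⊗_R R'` for `R'` free;
* `mem_vanishingIdeal_closure_iff`: sections of the vanishing ideal;
* `vanishingIdeal_closure_eq_comap`: the vanishing ideal of the closure of the base change.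
-/

set_option autoImplicit false
universe u
open CategoryTheory CategoryTheory.Limits AlgebraicGeometry Opposite TopologicalSpace

namespace K123.RedClosure

section Alg

variable {R A A' B B' R' : Type u} [CommRing R] [CommRing A] [CommRing A'] [CommRing B]
  [CommRing B'] [CommRing R'] [Algebra R A] [Algebra R R'] [Algebra A A'] [Algebra R' A']
  [Algebra R A'] [IsScalarTower R A A'] [IsScalarTower R R' A'] [Algebra R B] [Algebra B B']
  [Algebra R' B'] [Algebra R B'] [IsScalarTower R B B'] [IsScalarTower R R' B']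

theorem mem_map_of_coeff {κ : Type*} (b : Module.Basis κ R R')
    (hA : IsBaseChange A (IsScalarTower.toAlgHom R R' A').toLinearMap) (I : Ideal A) (x : A')
    (h : ∀ i, (hA.basis b).repr x i ∈ I) : x ∈ I.map (algebraMap A A') := by
  rw [← (hA.basis b).linearCombination_repr x, Finsupp.linearCombination_apply, Finsupp.sum]
  refine Submodule.sum_mem _ fun i _ => ?_
  rw [Algebra.smul_def]
  exact Ideal.mul_mem_right _ _ (Ideal.mem_map_of_mem _ (h i))

theorem coeff_map_eq_zero {κ : Type*} (b : Module.Basis κ R R')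
    (hA : IsBaseChange A (IsScalarTower.toAlgHom R R' A').toLinearMap)
    (hB : IsBaseChange B (IsScalarTower.toAlgHom R R' B').toLinearMap)
    (φ : A →+* B) (φ' : A' →+* B') (h1 : ∀ a, φ' (algebraMap A A' a) = algebraMap B B' (φ a))
    (h2 : ∀ r, φ' (algebraMap R' A' r) = algebraMap R' B' r) (x : A') (hx : φ' x = 0) (i : κ) :
    φ ((hA.basis b).repr x i) = 0 := by
  have key : φ' x = Finsupp.linearCombination B (hB.basis b)
      (((hA.basis b).repr x).mapRange φ (map_zero φ)) := by
    conv_lhs => rw [← (hA.basis b).linearCombination_repr x]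
    rw [Finsupp.linearCombination_apply, Finsupp.linearCombination_apply,
      Finsupp.sum_mapRange_index (by simp), Finsupp.sum, map_sum, Finsupp.sum]
    refine Finset.sum_congr rfl fun j _ => ?_
    rw [Algebra.smul_def, map_mul, h1, IsBaseChange.basis_apply, IsBaseChange.basis_apply,
      Algebra.smul_def]
    congr 1
    exact h2 _
  rw [hx] at key
  have h3 := (hB.basis b).linearIndependent
  have h4 : ((hA.basis b).repr x).mapRange φ (map_zero φ) = 0 :=
    (linearIndependent_iff.mp h3) _ key.symm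
  have h5 := congrArg (fun s : κ →₀ B => s i) h4
  simpa using h5

end Alg

section Geom

variable {X : Scheme.{u}}

/-- Sections of the vanishing ideal of a closure. -/
theorem mem_vanishingIdeal_closure_iff (S : Set X) (U : X.affineOpens) (a : Γ(X, U)) :
    a ∈ (Scheme.IdealSheafData.vanishingIdeal (Closeds.closure S)).ideal U ↔
      ∀ x ∈ S, x ∉ X.basicOpen a := by
  rw [Scheme.IdealSheafData.vanishingIdeal_ideal, PrimeSpectrum.mem_vanishingIdeal]
  constructor
  · intro h x hx hxa
    have hxU : x ∈ U.1 := X.basicOpen_le a hxa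
    obtain ⟨y, hy⟩ : x ∈ Set.range U.2.fromSpec := by rw [U.2.range_fromSpec]; exact hxU
    have h1 := h y (by
      show U.2.fromSpec y ∈ (Closeds.closure S : Set X)
      rw [hy]
      exact subset_closure hx)
    have h2 : y ∈ U.2.fromSpec ⁻¹ᵁ X.basicOpen a := by
      show U.2.fromSpec y ∈ X.basicOpen a
      rw [hy]; exact hxa
    rw [U.2.fromSpec_preimage_basicOpen] at h2
    exact h2 h1
  · intro h y hy
    by_contra hya
    have h2 : y ∈ U.2.fromSpec ⁻¹ᵁ X.basicOpen a := by
      rw [U.2.fromSpec_preimage_basicOpen]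
      exact hya
    have h3 : U.2.fromSpec y ∈ closure S := hy
    obtain ⟨z, hz, hzS⟩ := mem_closure_iff.mp h3 _ (X.basicOpen a).isOpen h2
    exact h z hzS hz

end Geom

section Main

variable {k : Type u} [Field k] {X S' : Scheme.{u}}

theorem isField_top (k : Type u) [Field k] : IsField Γ(Spec (CommRingCat.of k), ⊤) :=
  MulEquiv.isField (Field.toIsField k)
    (Scheme.ΓSpecIso (CommRingCat.of k)).commRingCatIsoToRingEquiv.toMulEquiv

variable {Y T : Scheme.{u}} {f : T ⟶ Spec (CommRingCat.of k)} {g : Y ⟶ X}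
  {iX : X ⟶ Spec (CommRingCat.of k)} {iY : Y ⟶ T} [IsAffine T]

theorem isPushout_sections (H : IsPullback g iY iX f) {U : X.Opens} {V : Y.Opens}
    (hV : V = g ⁻¹ᵁ U) (hU : IsAffineOpen U) :
    IsPushout (iX.appLE ⊤ U le_top) (f.appLE ⊤ ⊤ le_top) (g.appLE U V hV.le)
      (iY.appLE ⊤ V le_top) := by
  have hUY : V = g ⁻¹ᵁ U ⊓ iY ⁻¹ᵁ ⊤ := by simp [hV]
  exact (isIso_pushoutSection_iff H (US := ⊤) (UT := ⊤) (UX := U) le_top le_top hUY).mp
    (isIso_pushoutSection_of_isAffineOpen H (US := ⊤) (UT := ⊤) (UX := U) le_top le_top hUY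
      (isAffineOpen_top _) (isAffineOpen_top _) hU)

/-- Algebra: an element of a pushout `A ⊗_R R'` (`R` a field) killed in all `B_j ⊗_R R'` comes from the
common kernel of the maps `A → B_j`. -/
theorem mem_map_of_isPushout {R A A' R' : CommRingCat.{u}} {α : R ⟶ A} {ρ : R ⟶ R'} {β : A ⟶ A'}
    {σ : R' ⟶ A'} (hP : IsPushout α ρ β σ) (hR : IsField R) {J : Type*} (B B' : J → CommRingCat.{u})
    (φ : ∀ j, A ⟶ B j) (φ' : ∀ j, A' ⟶ B' j) (βB : ∀ j, B j ⟶ B' j)
    (hB : ∀ j, IsPushout (α ≫ φ j) ρ (βB j) (σ ≫ φ' j)) (hc : ∀ j, β ≫ φ' j = φ j ≫ βB j)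
    (I : Ideal A) (hI : ∀ a : A, (∀ j, (φ j).hom a = 0) → a ∈ I) (x : A')
    (hx : ∀ j, (φ' j).hom x = 0) : x ∈ I.map β.hom := by
  let _ : Field R := hR.toField
  let _ : Algebra R A := α.hom.toAlgebra
  let _ : Algebra R R' := ρ.hom.toAlgebra
  let _ : Algebra A A' := β.hom.toAlgebra
  let _ : Algebra R' A' := σ.hom.toAlgebra
  let _ : Algebra R A' := (α ≫ β).hom.toAlgebra
  have t1 : IsScalarTower R A A' := IsScalarTower.of_algebraMap_eq' rfl
  have t2 : IsScalarTower R R' A' := IsScalarTower.of_algebraMap_eq' (congrArg CommRingCat.Hom.hom hP.w)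
  have hA : Algebra.IsPushout R A R' A' := (CommRingCat.isPushout_iff_isPushout).mp hP
  let b := Module.Basis.ofVectorSpace R R'
  refine mem_map_of_coeff b hA.out I x fun i => hI _ fun j => ?_
  let _ : Algebra R (B j) := (α ≫ φ j).hom.toAlgebra
  let _ : Algebra (B j) (B' j) := (βB j).hom.toAlgebra
  let _ : Algebra R' (B' j) := (σ ≫ φ' j).hom.toAlgebra
  let _ : Algebra R (B' j) := ((α ≫ φ j) ≫ βB j).hom.toAlgebra
  have t3 : IsScalarTower R (B j) (B' j) := IsScalarTower.of_algebraMap_eq' rfl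
  have t4 : IsScalarTower R R' (B' j) :=
    IsScalarTower.of_algebraMap_eq' (congrArg CommRingCat.Hom.hom (hB j).w)
  have hBj : Algebra.IsPushout R (B j) R' (B' j) := (CommRingCat.isPushout_iff_isPushout).mp (hB j)
  exact coeff_map_eq_zero b hA.out hBj.out (φ j).hom (φ' j).hom
    (fun a => congrArg (fun t : A ⟶ B' j => t.hom a) (hc j)) (fun r => rfl) x (hx j) i

/-- The vanishing ideal of the closure of the union of the images commutes with base change to an
affine scheme over the base field when the base changes of the sources are reduced. -/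
theorem vanishingIdeal_closure_eq_comap [IsAffine S']
    (p : X ⟶ Spec (CommRingCat.of k)) {ι : Type u} (Z : ι → Scheme.{u}) (f : ∀ i, Z i ⟶ X)
    (q : S' ⟶ Spec (CommRingCat.of k))
    (hred : ∀ i, IsReduced (pullback (f i ≫ p) q))
    (f' : ∀ i, pullback (f i ≫ p) q ⟶ pullback p q)
    (hsq : ∀ i, f' i ≫ pullback.fst p q = pullback.fst (f i ≫ p) q ≫ f i)
    (hsn : ∀ i, f' i ≫ pullback.snd p q = pullback.snd (f i ≫ p) q) :
    Scheme.IdealSheafData.vanishingIdeal (TopologicalSpace.Closeds.closure (⋃ i, Set.range (f' i))) =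
      (Scheme.IdealSheafData.vanishingIdeal (TopologicalSpace.Closeds.closure (⋃ i, Set.range (f i)))).comap
        (pullback.fst p q) := by
  have : IsAffineHom q := inferInstance
  have : IsAffineHom (pullback.fst p q) := MorphismProperty.pullback_fst _ _ inferInstance
  apply le_antisymm
  · have hcov : ⨆ U : X.affineOpens, ((⟨pullback.fst p q ⁻¹ᵁ U.1, U.2.preimage _⟩ :
        (pullback p q).affineOpens) : (pullback p q).Opens) = ⊤ := by
      rw [← Scheme.Hom.preimage_iSup, iSup_affineOpens_eq_top, Scheme.Hom.preimage_top]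
    refine Scheme.IdealSheafData.le_of_iSup_eq_top
      (fun U : X.affineOpens => ⟨pullback.fst p q ⁻¹ᵁ U.1, U.2.preimage _⟩) hcov fun U => ?_
    intro a' ha'
    rw [mem_vanishingIdeal_closure_iff] at ha'
    rw [Groth.Agent.Divis.IdealComap.ideal_comap _ _ U _ le_rfl]
    let V : (pullback p q).Opens := pullback.fst p q ⁻¹ᵁ U.1
    let J := Σ i, {W : (Z i).Opens // IsAffineOpen W ∧ W ≤ f i ⁻¹ᵁ U.1}
    have he : ∀ j : J, pullback.fst (f j.1 ≫ p) q ⁻¹ᵁ j.2.1 ≤ f' j.1 ⁻¹ᵁ V := fun j => by
      show _ ≤ f' j.1 ⁻¹ᵁ (pullback.fst p q ⁻¹ᵁ U.1)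
      rw [← Scheme.Hom.comp_preimage, hsq, Scheme.Hom.comp_preimage]
      exact (pullback.fst (f j.1 ≫ p) q).preimage_mono j.2.2.2
    refine mem_map_of_isPushout (J := J)
      (isPushout_sections (IsPullback.of_hasPullback p q) (U := U.1) rfl U.2)
      (isField_top k)
      (fun j => Γ(Z j.1, j.2.1)) (fun j => Γ(pullback (f j.1 ≫ p) q, pullback.fst (f j.1 ≫ p) q ⁻¹ᵁ j.2.1))
      (fun j => (f j.1).appLE U.1 j.2.1 j.2.2.2)
      (fun j => (f' j.1).appLE V (pullback.fst (f j.1 ≫ p) q ⁻¹ᵁ j.2.1) (he j))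
      (fun j => (pullback.fst (f j.1 ≫ p) q).appLE j.2.1 _ le_rfl)
      (fun j => ?_) (fun j => ?_) _ ?_ a' ?_
    · have h1 := isPushout_sections (IsPullback.of_hasPullback (f j.1 ≫ p) q) (U := j.2.1) rfl j.2.2.1
      rw [Scheme.Hom.appLE_comp_appLE, Scheme.Hom.appLE_comp_appLE]
      simp only [hsn]
      exact h1
    · rw [Scheme.Hom.appLE_comp_appLE, Scheme.Hom.appLE_comp_appLE]
      simp only [hsq]
    · intro a ha
      rw [mem_vanishingIdeal_closure_iff]
      intro x hx hxa
      obtain ⟨i, z, rfl⟩ := Set.mem_iUnion.mp hx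
      have hz : z ∈ f i ⁻¹ᵁ U.1 := X.basicOpen_le a hxa
      obtain ⟨W, hW, hzW, hWU⟩ := exists_isAffineOpen_mem_and_subset (X := Z i) (x := z)
        (U := f i ⁻¹ᵁ U.1) hz
      have h0 := ha ⟨i, W, hW, hWU⟩
      have h1 : z ∈ (Z i).basicOpen ((f i).appLE U.1 W hWU a) := by
        rw [Scheme.basicOpen_appLE]
        exact ⟨hzW, hxa⟩
      have h2 : (Z i).basicOpen ((f i).appLE U.1 W hWU a) = ⊥ := by
        have : (f i).appLE U.1 W hWU a = 0 := h0
        rw [this, Scheme.basicOpen_zero]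
      rw [h2] at h1
      exact h1
    · intro j
      have := hred j.1
      refine (basicOpen_eq_bot_iff _).mp ?_
      rw [eq_bot_iff]
      intro z hz
      have h1 : z ∈ (pullback (f j.1 ≫ p) q).basicOpen ((f' j.1).appLE V
        (pullback.fst (f j.1 ≫ p) q ⁻¹ᵁ j.2.1) (he j) a') := hz
      rw [Scheme.basicOpen_appLE] at h1
      exact ha' (f' j.1 z) (Set.mem_iUnion.mpr ⟨j.1, z, rfl⟩) h1.2
  · rw [← Scheme.IdealSheafData.le_support_iff_le_vanishingIdeal,
      Scheme.IdealSheafData.support_comap, Closeds.closure_le]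
    rintro _ ⟨_, ⟨i, rfl⟩, ⟨z, rfl⟩⟩
    show pullback.fst p q (f' i z) ∈ (Scheme.IdealSheafData.vanishingIdeal (TopologicalSpace.Closeds.closure (⋃ i, Set.range (f i)))).support
    rw [← SetLike.mem_coe, Scheme.IdealSheafData.coe_support_vanishingIdeal]
    refine subset_closure (Set.mem_iUnion.mpr ⟨i, pullback.fst (f i ≫ p) q z, ?_⟩)
    rw [← Scheme.Hom.comp_apply, ← Scheme.Hom.comp_apply, hsq]

end Main

end K123.RedClosure
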