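import Groth.Agent.S2677
import Groth.Agent.CycB.CohStalk
import Mathlib.Algebra.Category.ModuleCat.ProjectiveDimension

/-!
# Openness of the locus where a coherent module has projective dimension `≤ n`

* `pd_eq_of_isLocalizedModule`: projective dimension of a localized module does not depend on the
  model of the localization;
* `pd_stalk_eq`: the projective dimension of the stalk of a quasi-coherent module at a point of an
  affine open `V` in terms of `Γ(M, V)`;
* `isOpen_pd_le`: the set of points where a coherent module on a locally Noetherian scheme has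
  projective dimension `≤ n` is open.
-/

set_option autoImplicit false
set_option linter.style.haveILetI false
universe u
open CategoryTheory AlgebraicGeometry TopologicalSpace Topology

namespace K123.PdOpen

open Groth.Agent

attribute [local instance] RingHomInvPair.of_ringEquiv in
/-- Projective dimension of a localized module does not depend on the model. -/
theorem pd_eq_of_isLocalizedModule {A : Type u} [CommRing A] (S : Submonoid A)
    {M : Type u} [AddCommGroup M] [Module A M]
    {B : Type u} [CommRing B] [Algebra A B] [IsLocalization S B]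
    {N : Type u} [AddCommGroup N] [Module A N] [Module B N] [IsScalarTower A B N]
    (f : M →ₗ[A] N) [IsLocalizedModule S f] :
    projectiveDimension (ModuleCat.of (Localization S) (LocalizedModule S M)) =
      projectiveDimension (ModuleCat.of B N) := by
  let e : Localization S ≃ₐ[A] B := IsLocalization.algEquiv S _ _
  let g : LocalizedModule S M ≃ₗ[A] N := IsLocalizedModule.linearEquiv S
    (LocalizedModule.mkLinearMap S M) f
  let g' : LocalizedModule S M ≃ₛₗ[RingHomClass.toRingHom e.toRingEquiv] N :=
    { g with
      map_smul' := by
        intro a m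
        change g (a • m) = e a • g m
        obtain ⟨r, s, rfl⟩ := IsLocalization.exists_mk'_eq S a
        have h1 : s • (IsLocalization.mk' (Localization S) r s • m) = r • m := by
          rw [Submonoid.smul_def, ← smul_assoc, Algebra.smul_def, mul_comm,
            IsLocalization.mk'_spec, algebraMap_smul]
        have hs : Function.Injective (fun n : N => (s : A) • n) :=
          ((Module.End.isUnit_iff _).mp (IsLocalizedModule.map_units f s)).1
        apply hs
        change (s : A) • g _ = (s : A) • (e _ • g m)
        rw [← map_smul]
        rw [Submonoid.smul_def] at h1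
        rw [h1, ← smul_assoc, Algebra.smul_def, IsLocalization.algEquiv_mk', mul_comm,
          IsLocalization.mk'_spec, algebraMap_smul, map_smul] }
  exact ModuleCat.projectiveDimension_eq_of_semiLinearEquiv e.toRingEquiv g'

variable {X : Scheme.{u}}

open Groth.Agent.Fdesc.QCohStalk in
/-- The projective dimension of a stalk of a quasi-coherent module. -/
theorem pd_stalk_eq (M : X.Modules) (hM : Coh.IsQCoh M) {V : X.Opens} (hV : IsAffineOpen V) (x : X)
    (hx : x ∈ V) :
    projectiveDimension (ModuleCat.of (Localization.AtPrime (hV.primeIdealOf ⟨x, hx⟩).asIdeal)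
      (LocalizedModule (hV.primeIdealOf ⟨x, hx⟩).asIdeal.primeCompl Γ(M, V))) =
    projectiveDimension (ModuleCat.of ↑(X.presheaf.stalk x) ↑(M.presheaf.stalk x)) := by
  letI : Algebra Γ(X, V) (X.presheaf.stalk x) := (X.presheaf.germ V x hx).hom.toAlgebra
  letI := stalkModule M x hx
  haveI : IsScalarTower Γ(X, V) (X.presheaf.stalk x) (M.presheaf.stalk x) :=
    IsScalarTower.of_algebraMap_smul (fun r m => rfl)
  haveI : IsLocalization.AtPrime (X.presheaf.stalk x) (hV.primeIdealOf ⟨x, hx⟩).asIdeal :=
    hV.isLocalization_stalk ⟨x, hx⟩
  haveI := isLocalizedModule_germ M hV hM x hx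
  exact pd_eq_of_isLocalizedModule (hV.primeIdealOf ⟨x, hx⟩).asIdeal.primeCompl (germₗ M x hx)

/-- The projective dimension of a coherent module is upper semicontinuous. -/
theorem isOpen_pd_le [IsLocallyNoetherian X] (M : X.Modules) (hM : Coh.IsCoh M) (n : ℕ) :
    IsOpen {x : X | projectiveDimension
      (ModuleCat.of ↑(X.presheaf.stalk x) ↑(M.presheaf.stalk x)) ≤ n} := by
  rw [isOpen_iff_mem_nhds]
  intro x hx
  obtain ⟨V, hxV, hV, hfin⟩ := CycB.CohStalk.exists_affine_finite M hM x
  haveI : IsNoetherianRing Γ(X, V) := IsLocallyNoetherian.component_noetherian ⟨V, hV⟩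
  have h1 := S2677.result Γ(X, V) Γ(M, V) n
  have hc : Continuous hV.primeIdealOf := hV.isoSpec.hom.continuous
  have h2 := (h1.preimage hc)
  have h3 := V.isOpen.isOpenMap_subtype_val _ h2
  refine Filter.mem_of_superset (h3.mem_nhds ?_) ?_
  · refine ⟨⟨x, hxV⟩, ?_, rfl⟩
    change projectiveDimension _ ≤ _
    rw [pd_stalk_eq M hM.1 hV x hxV]
    exact hx
  · rintro _ ⟨⟨y, hy⟩, hy', rfl⟩
    change projectiveDimension _ ≤ _
    rw [← pd_stalk_eq M hM.1 hV y hy]
    exact hy'

end K123.PdOpen
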