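import Groth.Agent.EGA43.K123.PrimInj
import Groth.Agent.Flat2C.FlatAtCriterion
import Mathlib.RingTheory.IsTensorProduct

/-!
# Flatness of `A' ⊗ M` from flatness at one prime (primary residue extension)
-/

set_option autoImplicit false
set_option linter.style.haveILetI false
set_option linter.unusedSectionVars false
universe u
open TensorProduct IsLocalRing

namespace K123.Prim

section Content

variable {A B A' : Type u} [CommRing A] [CommRing B] [CommRing A'] [Algebra A B] [Algebra A A']
  [IsLocalRing A] [IsLocalRing B] [IsLocalRing A']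

/-- Coordinates on `V ⊗ P`, for `V` and `P` killed by the maximal ideal `m`. -/
theorem exists_coord {A : Type u} [CommRing A] (m : Ideal A) [m.IsMaximal] (V : Type u)
    [AddCommGroup V] [Module A V] (hV : ∀ a ∈ m, ∀ v : V, a • v = 0) :
    ∃ (Λ : Type u) (c : ∀ (P : Type u) [AddCommGroup P] [Module A P]
      (_ : ∀ a ∈ m, ∀ p : P, a • p = 0), V ⊗[A] P ≃+ (Λ →₀ P)),
      ∀ (P P' : Type u) [AddCommGroup P] [Module A P] [AddCommGroup P'] [Module A P']
        (hP : ∀ a ∈ m, ∀ p : P, a • p = 0) (hP' : ∀ a ∈ m, ∀ p : P', a • p = 0)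
        (g : P →ₗ[A] P') (z : V ⊗[A] P) (l : Λ), c P' hP' (g.lTensor V z) l = g (c P hP z l) := by
  letI := Ideal.Quotient.field m
  have tV : Module.IsTorsionBySet A V (m : Set A) := fun v a => hV a.1 a.2 v
  letI : Module (A ⧸ m) V := tV.module
  have : IsScalarTower A (A ⧸ m) V := tV.isScalarTower
  let b := Module.Free.chooseBasis (A ⧸ m) V
  have htP : ∀ (P : Type u) [AddCommGroup P] [Module A P] (_ : ∀ a ∈ m, ∀ p : P, a • p = 0),
      Module.IsTorsionBySet A P (m : Set A) := fun P _ _ hP v a => hP a.1 a.2 v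
  have hc : ∀ (P : Type u) [AddCommGroup P] [Module A P] [Module (A ⧸ m) P]
      [IsScalarTower A (A ⧸ m) P], TensorProduct.CompatibleSMul A (A ⧸ m) V P := by
    intro P _ _ _ _
    constructor
    intro r v p
    obtain ⟨a, rfl⟩ := Ideal.Quotient.mk_surjective r
    have h1 : (Ideal.Quotient.mk m a) • v = a • v := algebraMap_smul (A ⧸ m) a v
    have h2 : (Ideal.Quotient.mk m a) • p = a • p := algebraMap_smul (A ⧸ m) a p
    rw [h1, h2, TensorProduct.smul_tmul]
  refine ⟨Module.Free.ChooseBasisIndex (A ⧸ m) V, fun P _ _ hP => ?_, ?_⟩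
  · letI : Module (A ⧸ m) P := (htP P hP).module
    haveI : IsScalarTower A (A ⧸ m) P := (htP P hP).isScalarTower
    haveI := hc P
    exact ((TensorProduct.equivOfCompatibleSMul A (A ⧸ m) (A ⧸ m) V P).symm.toAddEquiv).trans
      (TensorProduct.equivFinsuppOfBasisLeft b).toAddEquiv
  · intro P P' _ _ _ _ hP hP' g z l
    letI : Module (A ⧸ m) P := (htP P hP).module
    haveI : IsScalarTower A (A ⧸ m) P := (htP P hP).isScalarTower
    haveI := hc P
    letI : Module (A ⧸ m) P' := (htP P' hP').module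
    haveI : IsScalarTower A (A ⧸ m) P' := (htP P' hP').isScalarTower
    haveI := hc P'
    induction z with
    | zero => simp
    | add x y hx hy =>
      rw [map_add, map_add, Finsupp.add_apply, hx, hy, map_add, Finsupp.add_apply, map_add]
    | tmul v p =>
      rw [LinearMap.lTensor_tmul]
      change (TensorProduct.equivFinsuppOfBasisLeft b) (v ⊗ₜ[A ⧸ m] g p) l =
        g ((TensorProduct.equivFinsuppOfBasisLeft b) (v ⊗ₜ[A ⧸ m] p) l)
      rw [TensorProduct.equivFinsuppOfBasisLeft_apply_tmul_apply,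
        TensorProduct.equivFinsuppOfBasisLeft_apply_tmul_apply]
      obtain ⟨a, ha⟩ := Ideal.Quotient.mk_surjective (b.repr v l)
      rw [← ha]
      exact (map_smul g a p).symm

theorem eq_zero_of_functionals (n : Ideal A') [n.IsMaximal] {W : Type u} [AddCommGroup W]
    [Module A' W] (hW : ∀ a ∈ n, ∀ w : W, a • w = 0) (w : W)
    (h : ∀ φ : W →ₗ[A'] A' ⧸ n, φ w = 0) : w = 0 := by
  have h1 : (1 : A') ⊗ₜ[A'] w = 0 := by
    refine eq_zero_of_functionals_right (A := A') n hW _ fun φ => ?_
    rw [LinearMap.lTensor_tmul, LinearMap.restrictScalars_apply, h φ, TensorProduct.tmul_zero]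
  have h2 := congrArg (TensorProduct.lid A' W) h1
  rwa [TensorProduct.lid_tmul, one_smul, map_zero] at h2

/-- A finitely generated module over a local ring without nonzero linear maps to the residue field
is zero. -/
theorem subsingleton_of_functionals (P : Type u) [AddCommGroup P] [Module A' P]
    [Module.Finite A' P] (h : ∀ ψ : P →ₗ[A'] A' ⧸ maximalIdeal A', ψ = 0) : Subsingleton P := by
  have h1 : (⊤ : Submodule A' P) ≤ maximalIdeal A' • ⊤ := by
    intro p _
    rw [← Submodule.Quotient.mk_eq_zero]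
    refine eq_zero_of_functionals (maximalIdeal A') (fun a ha w => ?_) _ fun φ => ?_
    · obtain ⟨w, rfl⟩ := Submodule.mkQ_surjective _ w
      rw [← map_smul]
      exact (Submodule.Quotient.mk_eq_zero _).mpr (Submodule.smul_mem_smul ha trivial)
    · exact LinearMap.congr_fun (h (φ ∘ₗ (maximalIdeal A' • (⊤ : Submodule A' P)).mkQ)) p
  have h2 := Submodule.eq_bot_of_le_smul_of_le_jacobson_bot (maximalIdeal A') ⊤
    Module.Finite.fg_top h1 (IsLocalRing.maximalIdeal_le_jacobson ⊥)
  exact (Submodule.subsingleton_iff A').mp (subsingleton_of_bot_eq_top h2.symm)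

/-- From the residue field of `A'` to all the `A'`-modules killed by `m_A`. -/
theorem injAct_content (q : Ideal (A' ⊗[A] B)) (V : Type u) [AddCommGroup V] [Module A V]
    [Module B V] [IsScalarTower A B V] (hV : ∀ a ∈ maximalIdeal A, ∀ v : V, a • v = 0)
    (hP' : ∀ a ∈ maximalIdeal A, ∀ p : A' ⧸ maximalIdeal A', a • p = 0)
    (h : InjAct q V (A' ⧸ maximalIdeal A'))
    (P : Type u) [AddCommGroup P] [Module A P] [Module A' P] [IsScalarTower A A' P]
    (hP : ∀ a ∈ maximalIdeal A, ∀ p : P, a • p = 0) : InjAct q V P := by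
  obtain ⟨Λ, c, hc⟩ := exists_coord (maximalIdeal A) V hV
  intro s hs z hz
  let P₀ : Submodule A' P := Submodule.span A' (Set.range (fun l => c P hP z l))
  have hP₀ : ∀ a ∈ maximalIdeal A, ∀ p : P₀, a • p = 0 := fun a ha p => Subtype.ext (hP a ha p)
  let f₀ : Λ →₀ P₀ := Finsupp.onFinset (c P hP z).support
    (fun l => ⟨c P hP z l, Submodule.subset_span ⟨l, rfl⟩⟩) (fun l hl => by
      rw [Finsupp.mem_support_iff]
      exact fun h0 => hl (Subtype.ext h0))
  let z₀ : V ⊗[A] P₀ := (c P₀ hP₀).symm f₀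
  have hz₀ : c P₀ hP₀ z₀ = f₀ := (c P₀ hP₀).apply_symm_apply f₀
  have h1 : (P₀.subtype.restrictScalars A).lTensor V z₀ = z := by
    apply (c P hP).injective
    ext l
    rw [hc P₀ P hP₀ hP, hz₀]
    rfl
  have h2 : act V P₀ s z₀ = 0 := by
    apply (c P₀ hP₀).injective
    ext l
    rw [map_zero, Finsupp.zero_apply]
    have h3 := hc P₀ P hP₀ hP (P₀.subtype.restrictScalars A) (act V P₀ s z₀) l
    rw [lTensor_act, h1, hz, map_zero, Finsupp.zero_apply] at h3
    exact h3.symm
  have h3 : ∀ ψ : P₀ →ₗ[A'] A' ⧸ maximalIdeal A', ψ = 0 := by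
    intro ψ
    have h4 : (ψ.restrictScalars A).lTensor V z₀ = 0 :=
      h s hs _ (by rw [← lTensor_act, h2, map_zero])
    have h5 : ∀ l, ψ (f₀ l) = 0 := by
      intro l
      have h6 := hc P₀ _ hP₀ hP' (ψ.restrictScalars A) z₀ l
      rw [h4, map_zero, Finsupp.zero_apply, hz₀] at h6
      exact h6.symm
    refine LinearMap.ext fun x => ?_
    obtain ⟨x, hx⟩ := x
    rw [LinearMap.zero_apply]
    refine Submodule.span_induction (p := fun y hy => ψ ⟨y, hy⟩ = 0) ?_ ?_ ?_ ?_ hx
    · rintro _ ⟨l, rfl⟩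
      exact h5 l
    · exact map_zero ψ
    · intro x y hx hy h7 h8
      have : (⟨x + y, P₀.add_mem hx hy⟩ : P₀) = ⟨x, hx⟩ + ⟨y, hy⟩ := rfl
      rw [this, map_add, h7, h8, add_zero]
    · intro a x hx h7
      have : (⟨a • x, P₀.smul_mem a hx⟩ : P₀) = a • ⟨x, hx⟩ := rfl
      rw [this, map_smul, h7, smul_zero]
  have hfg : Module.Finite A' P₀ := by
    refine Module.Finite.iff_fg.mpr (Submodule.fg_span ?_)
    refine ((c P hP z).support.finite_toSet.image (fun l => c P hP z l)).union
      (Set.finite_singleton 0) |>.subset ?_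
    rintro _ ⟨l, rfl⟩
    by_cases hl : c P hP z l = 0
    · exact Or.inr hl
    · exact Or.inl ⟨l, Finsupp.mem_support_iff.mpr hl, rfl⟩
  have := subsingleton_of_functionals P₀ h3
  rw [← h1]
  have h9 : z₀ = 0 := by
    apply (c P₀ hP₀).injective
    exact Subsingleton.elim _ _
  rw [h9, map_zero]

theorem injAct_mod (q : Ideal (A' ⊗[A] B)) (M : Type u) [AddCommGroup M] [Module A M]
    [Module B M] [IsScalarTower A B M] (P : Type u) [AddCommGroup P] [Module A P] [Module A' P]
    [IsScalarTower A A' P] (hP : ∀ a ∈ maximalIdeal A, ∀ p : P, a • p = 0)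
    (h : InjAct q (M ⧸ ((maximalIdeal A).map (algebraMap A B) • ⊤ : Submodule B M)) P) :
    InjAct q M P := by
  intro s hs z hz
  let N : Submodule B M := (maximalIdeal A).map (algebraMap A B) • ⊤
  have h1 : (N.mkQ.restrictScalars A).rTensor P z = 0 :=
    h s hs _ (by rw [← rTensor_act, hz, map_zero])
  have hex : Function.Exact (N.subtype.restrictScalars A) (N.mkQ.restrictScalars A) :=
    LinearMap.exact_subtype_mkQ N
  obtain ⟨z', rfl⟩ := (rTensor_exact P hex N.mkQ_surjective z).mp h1
  have h2 : ∀ (r : B) (_ : r ∈ (maximalIdeal A).map (algebraMap A B)) (m : M) (p : P),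
      (r • m) ⊗ₜ[A] p = 0 := by
    intro r hr
    refine Submodule.span_induction (p := fun r _ => ∀ (m : M) (p : P), (r • m) ⊗ₜ[A] p = 0)
      ?_ ?_ ?_ ?_ hr
    · rintro _ ⟨a, ha, rfl⟩ m p
      rw [algebraMap_smul, TensorProduct.smul_tmul, hP a ha p, TensorProduct.tmul_zero]
    · intro m p
      rw [zero_smul, TensorProduct.zero_tmul]
    · intro x y _ _ hx hy m p
      rw [add_smul, TensorProduct.add_tmul, hx, hy, add_zero]
    · intro b x _ hx m p
      rw [smul_eq_mul, mul_comm, mul_smul, hx]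
  induction z' with
  | zero => exact map_zero _
  | add x y hx hy =>
    have h3 : ∀ w : N ⊗[A] P, (N.subtype.restrictScalars A).rTensor P w = 0 := by
      intro w
      induction w with
      | zero => exact map_zero _
      | add x y hx hy => rw [map_add, hx, hy, add_zero]
      | tmul n p =>
        obtain ⟨n, hn⟩ := n
        rw [LinearMap.rTensor_tmul]
        change n ⊗ₜ[A] p = 0
        refine Submodule.smul_induction_on hn (fun r hr m _ => h2 r hr m p) fun x y hx hy => ?_
        rw [TensorProduct.add_tmul, hx, hy, add_zero]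
    exact h3 _
  | tmul n p =>
    obtain ⟨n, hn⟩ := n
    rw [LinearMap.rTensor_tmul]
    change n ⊗ₜ[A] p = 0
    refine Submodule.smul_induction_on hn (fun r hr m _ => h2 r hr m p) fun x y hx hy => ?_
    rw [TensorProduct.add_tmul, hx, hy, add_zero]

/-- The elements outside `q` act injectively on `M ⊗ I`, `I` an ideal of `A'`. -/
theorem injAct_ideal (q : Ideal (A' ⊗[A] B)) [q.IsPrime] (M : Type u) [AddCommGroup M] [Module A M]
    [Module B M] [IsScalarTower A B M]
    (h : ∀ (P : Type u) [AddCommGroup P] [Module A P] [Module A' P] [IsScalarTower A A' P]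
      (_ : ∀ a ∈ maximalIdeal A, ∀ p : P, a • p = 0), InjAct q M P)
    (hflat : ∀ (I : Ideal A') (z : M ⊗[A] I), (I.subtype.restrictScalars A).lTensor M z = 0 →
      ∃ s ∉ q, act M I s z = 0) (j : ℕ) :
    ∀ (I : Ideal A') (_ : ((maximalIdeal A).map (algebraMap A A')) ^ j * I = ⊥),
      InjAct q M I := by
  induction j with
  | zero =>
    intro I hI s hs z hz
    rw [pow_zero, one_mul] at hI
    subst hI
    have h0 : ∀ w : M ⊗[A] (⊥ : Ideal A'), w = 0 := by
      intro w
      induction w with
      | zero => rfl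
      | add x y hx hy => rw [hx, hy, add_zero]
      | tmul m x =>
        have : x = 0 := Subsingleton.elim _ _
        rw [this, TensorProduct.tmul_zero]
    exact h0 z
  | succ j ih =>
    intro I hI s hs z hz
    set 𝔫 := (maximalIdeal A).map (algebraMap A A') with h𝔫
    have hle : 𝔫 * I ≤ I := Ideal.mul_le_right
    let i : (𝔫 * I : Ideal A') →ₗ[A'] I := Submodule.inclusion hle
    let N : Submodule A' I := LinearMap.range i
    have hex : Function.Exact (i.restrictScalars A) (N.mkQ.restrictScalars A) := by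
      intro x
      constructor
      · intro hx
        have : x ∈ N := (Submodule.Quotient.mk_eq_zero N).mp hx
        exact this
      · rintro ⟨y, rfl⟩
        exact (Submodule.Quotient.mk_eq_zero N).mpr ⟨y, rfl⟩
    have hkill : ∀ a ∈ maximalIdeal A, ∀ p : I ⧸ N, a • p = 0 := by
      intro a ha p
      obtain ⟨p, rfl⟩ := N.mkQ_surjective p
      have h1 : a • N.mkQ p = N.mkQ (algebraMap A A' a • p) := by
        rw [map_smul, algebraMap_smul]
      rw [h1]
      refine (Submodule.Quotient.mk_eq_zero N).mpr ⟨⟨algebraMap A A' a * p, ?_⟩, rfl⟩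
      exact Ideal.mul_mem_mul (Ideal.mem_map_of_mem _ ha) p.2
    have h1 : (N.mkQ.restrictScalars A).lTensor M z = 0 :=
      h _ hkill s hs _ (by rw [← lTensor_act, hz, map_zero])
    obtain ⟨z', rfl⟩ := (lTensor_exact M hex N.mkQ_surjective z).mp h1
    have h2 : ((𝔫 * I : Ideal A').subtype.restrictScalars A).lTensor M (act M _ s z') = 0 := by
      have h3 : ((𝔫 * I : Ideal A').subtype.restrictScalars A) =
        (I.subtype.restrictScalars A) ∘ₗ (i.restrictScalars A) := rfl
      rw [h3, LinearMap.lTensor_comp, LinearMap.comp_apply, lTensor_act, hz, map_zero]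
    obtain ⟨s', hs', h4⟩ := hflat _ _ h2
    have h5 : act M (𝔫 * I : Ideal A') (s' * s) z' = 0 := by
      rw [map_mul]
      exact h4
    have h6 : s' * s ∉ q := fun h => (Ideal.IsPrime.mem_or_mem ‹_› h).elim hs' hs
    rw [ih (𝔫 * I) (by rw [← mul_assoc, ← pow_succ]; exact hI) _ h6 z' h5, map_zero]

end Content

section Main

attribute [local instance] Algebra.TensorProduct.rightAlgebra

variable {A B A' : Type u} [CommRing A] [CommRing B] [CommRing A'] [Algebra A B] [Algebra A A']
variable (M : Type u) [AddCommGroup M] [Module A M] [Module B M] [IsScalarTower A B M]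

/-- `(A' ⊗ B) ⊗_B M = A' ⊗ M` -/
noncomputable def cancelEquiv : (A' ⊗[A] B) ⊗[B] M ≃ₗ[A'] A' ⊗[A] M :=
  haveI : Algebra.IsPushout A A' B (A' ⊗[A] B) := TensorProduct.isPushout
  Algebra.IsPushout.cancelBaseChange A A' B (A' ⊗[A] B) M

theorem cancelEquiv_symm_one_tmul (m : M) :
    (cancelEquiv (A := A) (B := B) (A' := A') M).symm (1 ⊗ₜ m) = 1 ⊗ₜ m := by
  rw [LinearEquiv.symm_apply_eq]
  haveI : Algebra.IsPushout A A' B (A' ⊗[A] B) := TensorProduct.isPushout
  exact (Algebra.IsPushout.cancelBaseChange_tmul A A' B (A' ⊗[A] B) M m).symm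

variable (P : Type u) [AddCommGroup P] [Module A P] [Module A' P] [IsScalarTower A A' P]

/-- `M ⊗_A P = ((A' ⊗ B) ⊗_B M) ⊗_{A'} P` -/
noncomputable def tau : M ⊗[A] P ≃+ ((A' ⊗[A] B) ⊗[B] M) ⊗[A'] P :=
  (((TensorProduct.comm A M P).toAddEquiv.trans
    (AlgebraTensorModule.cancelBaseChange A A' A' P M).symm.toAddEquiv).trans
    (LinearEquiv.lTensor P (cancelEquiv (A := A) (B := B) (A' := A') M).symm).toAddEquiv).trans
    (TensorProduct.comm A' P ((A' ⊗[A] B) ⊗[B] M)).toAddEquiv

theorem tau_tmul (m : M) (p : P) :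
    tau (A := A) (B := B) (A' := A') M P (m ⊗ₜ[A] p) = ((1 : A' ⊗[A] B) ⊗ₜ[B] m) ⊗ₜ[A'] p := by
  change (TensorProduct.comm A' P ((A' ⊗[A] B) ⊗[B] M))
    ((LinearEquiv.lTensor P (cancelEquiv (A := A) (B := B) (A' := A') M).symm)
      ((AlgebraTensorModule.cancelBaseChange A A' A' P M).symm (p ⊗ₜ[A] m))) = _
  rw [AlgebraTensorModule.cancelBaseChange_symm_tmul, LinearEquiv.lTensor_tmul,
    cancelEquiv_symm_one_tmul, TensorProduct.comm_tmul]

theorem tau_act (s : A' ⊗[A] B) (z : M ⊗[A] P) :
    tau (A := A) (B := B) (A' := A') M P (act M P s z) = s • tau (A := A) (B := B) (A' := A') M P z := by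
  induction s with
  | zero => simp
  | add a b ha hb => rw [map_add, LinearMap.add_apply, map_add, ha, hb, add_smul]
  | tmul a b =>
    induction z with
    | zero => simp
    | add x y hx hy => rw [map_add, map_add, hx, hy, map_add, smul_add]
    | tmul m p =>
      rw [act_tmul, tau_tmul, tau_tmul, TensorProduct.smul_tmul', TensorProduct.smul_tmul',
        ← TensorProduct.smul_tmul (R := A')]
      congr 1
      rw [← TensorProduct.smul_tmul (R := B), TensorProduct.smul_tmul']
      congr 1
      rw [smul_eq_mul, mul_one, Algebra.smul_def b (1 : A' ⊗[A] B), mul_one]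
      change a • ((1 : A') ⊗ₜ[A] b) = _
      rw [TensorProduct.smul_tmul', smul_eq_mul, mul_one]

theorem tau_lTensor {P P' : Type u} [AddCommGroup P] [Module A P] [Module A' P]
    [IsScalarTower A A' P] [AddCommGroup P'] [Module A P'] [Module A' P'] [IsScalarTower A A' P']
    (g : P →ₗ[A'] P') (z : M ⊗[A] P) :
    tau (A := A) (B := B) (A' := A') M P' ((g.restrictScalars A).lTensor M z) =
      g.lTensor ((A' ⊗[A] B) ⊗[B] M) (tau (A := A) (B := B) (A' := A') M P z) := by
  induction z with
  | zero => simp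
  | add x y hx hy => simp only [map_add, hx, hy]
  | tmul m p =>
    rw [LinearMap.lTensor_tmul, tau_tmul, tau_tmul, LinearMap.lTensor_tmul]
    rfl

variable [IsLocalRing A] [IsLocalRing B] [IsNoetherianRing B] [IsLocalRing A']
  [IsLocalHom (algebraMap A B)] [IsLocalHom (algebraMap A A')]

/-- Let `A → B`, `A → A'` be local homomorphisms of local rings, `B` Noetherian, with the residue field
of `B` primary over that of `A` and `m_A` nilpotent in `A'`, `M` a finite `B`-module. If `A' ⊗_A M` is
flat over `A'` at one prime of `A' ⊗_A B` above the closed points of `A'` and `B`, then it is flat. -/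
theorem flat_of_flatAt [Module.Finite B M]
    (hprim : ∀ a : ResidueField B, IsSeparable (ResidueField A) a →
      a ∈ (algebraMap (ResidueField A) (ResidueField B)).range)
    (hnil : IsNilpotent ((maximalIdeal A).map (algebraMap A A')))
    (q : Ideal (A' ⊗[A] B)) [q.IsPrime]
    (h1 : (maximalIdeal A').map (Algebra.TensorProduct.includeLeft : A' →ₐ[A] A' ⊗[A] B) ≤ q)
    (h2 : (maximalIdeal B).map (Algebra.TensorProduct.includeRight : B →ₐ[A] A' ⊗[A] B) ≤ q)
    (hq : FlatCA.FlatAt A' q ((A' ⊗[A] B) ⊗[B] M)) : Module.Flat A' (A' ⊗[A] M) := by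
  have hP' : ∀ a ∈ maximalIdeal A, ∀ p : A' ⧸ maximalIdeal A', a • p = 0 := by
    intro a ha p
    obtain ⟨p, rfl⟩ := Ideal.Quotient.mk_surjective p
    rw [← IsScalarTower.algebraMap_smul A' a, Algebra.smul_def, Ideal.Quotient.algebraMap_eq,
      ← map_mul, Ideal.Quotient.eq_zero_iff_mem]
    exact Ideal.mul_mem_right _ _ (map_maximalIdeal_le (algebraMap A A')
      (Ideal.mem_map_of_mem _ ha))
  have hres := injAct_residue hprim q h1 h2
  have hM₀ : ∀ a ∈ maximalIdeal A,
      ∀ v : M ⧸ ((maximalIdeal A).map (algebraMap A B) • ⊤ : Submodule B M), a • v = 0 := by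
    intro a ha v
    obtain ⟨v, rfl⟩ := Submodule.mkQ_surjective _ v
    rw [← algebraMap_smul B a, ← map_smul]
    exact (Submodule.Quotient.mk_eq_zero _).mpr
      (Submodule.smul_mem_smul (Ideal.mem_map_of_mem _ ha) trivial)
  have hinj : ∀ (P : Type u) [AddCommGroup P] [Module A P] [Module A' P] [IsScalarTower A A' P]
      (_ : ∀ a ∈ maximalIdeal A, ∀ p : P, a • p = 0), InjAct q M P := fun P _ _ _ _ hP =>
    injAct_mod q M P hP (injAct_content q _ hM₀ hP' (injAct_finite q hres _ hM₀) P hP)
  have hflat : ∀ (I : Ideal A') (z : M ⊗[A] I), (I.subtype.restrictScalars A).lTensor M z = 0 →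
      ∃ s ∉ q, act M I s z = 0 := by
    intro I z hz
    obtain ⟨t, ht, h3⟩ := (Groth.Agent.Flat2C.FlatAtCriterion.flatAt_iff q).mp hq I
      (tau (A := A) (B := B) (A' := A') M I z) (by
        rw [← tau_lTensor]
        have : ((Submodule.subtype I).restrictScalars A).lTensor M z = 0 := hz
        exact (congrArg (tau (A := A) (B := B) (A' := A') M A') this).trans (map_zero _))
    refine ⟨t, ht, (tau (A := A) (B := B) (A' := A') M I).injective ?_⟩
    rw [tau_act, h3, map_zero]
  obtain ⟨r, hr⟩ := hnil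
  have hid : ∀ I : Ideal A', InjAct q M I := fun I => injAct_ideal q M hinj hflat r I (by
    have : ((maximalIdeal A).map (algebraMap A A')) ^ r = ⊥ := hr
    rw [this, Ideal.bot_mul])
  have hN : Module.Flat A' ((A' ⊗[A] B) ⊗[B] M) := by
    rw [Module.Flat.iff_lTensor_injective']
    intro I
    rw [injective_iff_map_eq_zero]
    intro y hy
    obtain ⟨z, rfl⟩ := (tau (A := A) (B := B) (A' := A') M I).surjective y
    have h3 : (I.subtype.restrictScalars A).lTensor M z = 0 := by
      apply (tau (A := A) (B := B) (A' := A') M A').injective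
      rw [map_zero]
      exact (tau_lTensor M I.subtype z).trans hy
    obtain ⟨s, hs, h4⟩ := hflat I z h3
    rw [hid I s hs z h4, map_zero]
  exact Module.Flat.of_linearEquiv (cancelEquiv (A := A) (B := B) (A' := A') M).symm

end Main

end K123.Prim
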