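import Groth.Agent.EGA43.K123.PrimFlat
import Groth.Agent.Ega43.StalkPull
import Groth.Agent.Ega1.TildePullback
import Groth.Agent.S2394
import Groth.Agent.FlatMod.K582.PullFlat
import Groth.Agent.Flat2C.StrictMPull
import Groth.Agent.Models2.FlatIso
import Groth.Agent.EGA43.K120.FlatPt

/-!
# Flatness at a point of `X ×_Y Spec A'` over a point `x` of `X` and the closed point of `Spec A'`,
# in terms of the local ring at `x`
-/

set_option autoImplicit false
set_option linter.style.haveILetI false
set_option linter.unusedSectionVars false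
universe u
open CategoryTheory CategoryTheory.Limits AlgebraicGeometry TensorProduct IsLocalRing

namespace K123.Prim

open Groth.Agent Groth.Agent.Ega43.StalkPull

attribute [local instance] Algebra.TensorProduct.rightAlgebra

section Tilde

/-- Flatness of `tilde N` over `Spec R` at a point in terms of `FlatAt`. -/
theorem flatAt_of_isFlatOverAt_tilde {R S : Type u} [CommRing R] [CommRing S] [Algebra R S]
    (N : Type u) [AddCommGroup N] [Module R N] [Module S N] [IsScalarTower R S N]
    (x : Spec (CommRingCat.of S))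
    (h : FlatMod.IsFlatOverAt (Spec.map (CommRingCat.ofHom (algebraMap R S)))
      (tilde (R := CommRingCat.of S) (ModuleCat.of S N)) x) : FlatCA.FlatAt R x.asIdeal N := by
  have h1 := (S2394.flatAt_iff (CommRingCat.ofHom (algebraMap R S)) (ModuleCat.of S N) x).mp h
  letI i1 : Module S ((tilde (R := CommRingCat.of S) (ModuleCat.of S N)).presheaf.stalk x) :=
    S2394.modStalk (CommRingCat.of S) (ModuleCat.of S N) x
  letI i2 : Module R ((tilde (R := CommRingCat.of S) (ModuleCat.of S N)).presheaf.stalk x) :=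
    Module.compHom _ ((S2394.tos (CommRingCat.of S) x).comp (algebraMap R S))
  haveI : IsScalarTower R S ((tilde (R := CommRingCat.of S) (ModuleCat.of S N)).presheaf.stalk x) :=
    IsScalarTower.of_algebraMap_smul fun _ _ => rfl
  obtain ⟨g, hg⟩ := S2394.exists_isLocalizedModule_stalk (CommRingCat.of S) (ModuleCat.of S N) x
  rw [Flat2C.FlatAtCriterion.flatAt_iff]
  have h2 : Module.Flat R
    ((tilde (R := CommRingCat.of S) (ModuleCat.of S N)).presheaf.stalk x) := h1
  exact (Flat2C.FlatAtCriterion.flat_isLocalizedModule_iff (R := R) (S := S) (M := N)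
    x.asIdeal.primeCompl g).mp h2

end Tilde

section Point

variable {X Y : Scheme.{u}} (f : X ⟶ Y) {A B : Type u} [CommRing A] [CommRing B] [Algebra A B]
  [IsLocalRing A] [IsLocalRing B] [IsNoetherianRing B] [IsLocalHom (algebraMap A B)]
  (a : Spec (CommRingCat.of A) ⟶ Y) [Mono a] (b : Spec (CommRingCat.of B) ⟶ X) [Flat b]
  (h : b ≫ f = Spec.map (CommRingCat.ofHom (algebraMap A B)) ≫ a)
  (A' : Type u) [CommRing A'] [IsLocalRing A'] [Algebra A A'] [IsLocalHom (algebraMap A A')]
  (F : X.Modules) (M : Type u) [AddCommGroup M] [Module A M] [Module B M] [IsScalarTower A B M]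
  (e : (Scheme.Modules.pullback b).obj F ≅ tilde (ModuleCat.of B M))

include h e in
/-- From a point of `X ×_Y Spec A'` over `x = b(closed point)` and the closed point, at which the
pullback of `F` is flat over `Spec A'`, to a prime of `A' ⊗ B`. -/
theorem exists_prime_flatAt
    (x' : ↥(pullback f (Spec.map (CommRingCat.ofHom (algebraMap A A')) ≫ a)))
    (hx1 : pullback.fst f (Spec.map (CommRingCat.ofHom (algebraMap A A')) ≫ a) x' =
      b (closedPoint B))
    (hx2 : pullback.snd f (Spec.map (CommRingCat.ofHom (algebraMap A A')) ≫ a) x' =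
      closedPoint A')
    (hx3 : FlatMod.IsFlatOverAt (pullback.snd f (Spec.map (CommRingCat.ofHom (algebraMap A A')) ≫ a))
      ((Scheme.Modules.pullback (pullback.fst f
        (Spec.map (CommRingCat.ofHom (algebraMap A A')) ≫ a))).obj F) x') :
    ∃ (q : Ideal (A' ⊗[A] B)) (_ : q.IsPrime),
      (maximalIdeal A').map (Algebra.TensorProduct.includeLeft : A' →ₐ[A] A' ⊗[A] B) ≤ q ∧
      (maximalIdeal B).map (Algebra.TensorProduct.includeRight : B →ₐ[A] A' ⊗[A] B) ≤ q ∧
      FlatCA.FlatAt A' q ((A' ⊗[A] B) ⊗[B] M) := by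
  obtain ⟨z, hz1, hz2⟩ := Scheme.exists_preimage_of_isPullback (isPullback_lift f a b h A')
    x' (closedPoint B) hx1
  have hfl := flat_lift f a b h A'
  refine ⟨z.asIdeal, z.2, ?_, ?_, ?_⟩
  · rw [Ideal.map_le_iff_le_comap]
    have h1 : Spec.map (CommRingCat.ofHom (algebraMap A' (A' ⊗[A] B))) z = closedPoint A' := by
      rw [← lift_snd f a b h A', Scheme.Hom.comp_apply, hz1, hx2]
    have h2 := congrArg PrimeSpectrum.asIdeal h1
    exact h2.ge
  · rw [Ideal.map_le_iff_le_comap]
    exact (congrArg PrimeSpectrum.asIdeal hz2).ge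
  · refine flatAt_of_isFlatOverAt_tilde (R := A') (S := A' ⊗[A] B) ((A' ⊗[A] B) ⊗[B] M) z ?_
    subst hz1
    have h1 := (K582.PullFlat.isFlatOverAt_iff_pullback (lift f a b h A')
      (pullback.snd f (Spec.map (CommRingCat.ofHom (algebraMap A A')) ≫ a)) _ z
      (Flat.stalkMap (lift f a b h A') z)).mp hx3
    rw [lift_snd] at h1
    refine Models2.FlatIso.isFlatOverAt_of_iso _ ?_ z h1
    exact (Scheme.Modules.pullbackComp _ _).app F ≪≫
      (Scheme.Modules.pullbackCongr (lift_fst f a b h A')).app F ≪≫
      ((Scheme.Modules.pullbackComp _ b).app F).symm ≪≫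
      (Scheme.Modules.pullback _).mapIso e ≪≫
      Ega1.TildePullback.pullbackTildeIso B (A' ⊗[A] B) M

end Point

end K123.Prim
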