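import Mathlib.LinearAlgebra.TensorProduct.Basis
import Mathlib.LinearAlgebra.TensorProduct.Quotient
import Mathlib.LinearAlgebra.TensorProduct.RightExactness
import Mathlib.LinearAlgebra.DirectSum.Finsupp
import Mathlib.Algebra.Module.Torsion.Basic
import Mathlib.RingTheory.Ideal.Quotient.Basic
import Mathlib.RingTheory.TensorProduct.Maps
import Mathlib.RingTheory.Filtration
import Mathlib.RingTheory.LocalRing.Module

/-!
# The action of `A' ⊗ B` on `V ⊗ P` and modules killed by a maximal ideal

* `act V P : A' ⊗[A] B →ₐ[A] Module.End A (V ⊗[A] P)`, natural in `V` and `P`;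
* `exists_retract`, `eq_zero_of_functionals_left`, `eq_zero_of_functionals_right`: linear algebra of
  modules killed by a maximal ideal.
-/

set_option autoImplicit false
set_option linter.style.haveILetI false
universe u
open TensorProduct

namespace K123.Prim

section Act

variable {A B A' : Type u} [CommRing A] [CommRing B] [CommRing A'] [Algebra A B] [Algebra A A']
variable (V : Type u) [AddCommGroup V] [Module A V] [Module B V] [IsScalarTower A B V]
  (P : Type u) [AddCommGroup P] [Module A P] [Module A' P] [IsScalarTower A A' P]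

/-- The action of `A' ⊗ B` on `V ⊗ P`. -/
noncomputable def act : A' ⊗[A] B →ₐ[A] Module.End A (V ⊗[A] P) :=
  Algebra.TensorProduct.lift
    ((Module.End.lTensorAlgHom A P V).comp (Algebra.lsmul A A P))
    ((Module.End.rTensorAlgHom A V P).comp (Algebra.lsmul A A V))
    (fun x y => by
      refine LinearMap.ext fun z => ?_
      induction z with
      | zero => simp
      | add a b ha hb => rw [map_add, map_add, ha, hb]
      | tmul v p => rfl)

theorem act_tmul (a : A') (b : B) (v : V) (p : P) :
    act V P (a ⊗ₜ[A] b) (v ⊗ₜ[A] p) = (b • v) ⊗ₜ[A] (a • p) := by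
  simp only [act, Algebra.TensorProduct.lift_tmul]
  rfl

variable {V P} {V' : Type u} [AddCommGroup V'] [Module A V'] [Module B V'] [IsScalarTower A B V']
  {P' : Type u} [AddCommGroup P'] [Module A P'] [Module A' P'] [IsScalarTower A A' P']

theorem map_act (f : V →ₗ[B] V') (g : P →ₗ[A'] P') (s : A' ⊗[A] B) (z : V ⊗[A] P) :
    TensorProduct.map (f.restrictScalars A) (g.restrictScalars A) (act V P s z) =
      act V' P' s (TensorProduct.map (f.restrictScalars A) (g.restrictScalars A) z) := by
  induction s with
  | zero => simp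
  | add a b ha hb =>
    rw [map_add, LinearMap.add_apply, map_add, ha, hb, map_add, LinearMap.add_apply]
  | tmul a b =>
    induction z with
    | zero => simp
    | add x y hx hy => rw [map_add, map_add, hx, hy, map_add, map_add]
    | tmul v p =>
      rw [act_tmul, TensorProduct.map_tmul, TensorProduct.map_tmul, act_tmul]
      simp only [LinearMap.coe_restrictScalars, map_smul]

theorem rTensor_act (f : V →ₗ[B] V') (s : A' ⊗[A] B) (z : V ⊗[A] P) :
    (f.restrictScalars A).rTensor P (act V P s z) = act V' P s ((f.restrictScalars A).rTensor P z) :=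
  map_act f (LinearMap.id (R := A') (M := P)) s z

theorem lTensor_act (g : P →ₗ[A'] P') (s : A' ⊗[A] B) (z : V ⊗[A] P) :
    (g.restrictScalars A).lTensor V (act V P s z) = act V P' s ((g.restrictScalars A).lTensor V z) :=
  map_act (LinearMap.id (R := B) (M := V)) g s z

/-- All elements outside `q` act injectively on `V ⊗ P`. -/
def InjAct (q : Ideal (A' ⊗[A] B)) (V : Type u) [AddCommGroup V] [Module A V] [Module B V]
    [IsScalarTower A B V] (P : Type u) [AddCommGroup P] [Module A P] [Module A' P]
    [IsScalarTower A A' P] : Prop :=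
  ∀ s ∉ q, ∀ z : V ⊗[A] P, act V P s z = 0 → z = 0

end Act

section Lin

/-- Injections of modules killed by a maximal ideal split. -/
theorem exists_retract {A : Type u} [CommRing A] (m : Ideal A) [m.IsMaximal] {V' V : Type u}
    [AddCommGroup V'] [Module A V'] [AddCommGroup V] [Module A V]
    (hV' : ∀ a ∈ m, ∀ v : V', a • v = 0) (hV : ∀ a ∈ m, ∀ v : V, a • v = 0)
    (i : V' →ₗ[A] V) (hi : Function.Injective i) : ∃ r : V →ₗ[A] V', r ∘ₗ i = LinearMap.id := by
  letI := Ideal.Quotient.field m
  have t' : Module.IsTorsionBySet A V' (m : Set A) := fun v a => hV' a.1 a.2 v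
  have t : Module.IsTorsionBySet A V (m : Set A) := fun v a => hV a.1 a.2 v
  letI : Module (A ⧸ m) V' := t'.module
  letI : Module (A ⧸ m) V := t.module
  have : IsScalarTower A (A ⧸ m) V' := t'.isScalarTower
  have : IsScalarTower A (A ⧸ m) V := t.isScalarTower
  let j : V' →ₗ[A ⧸ m] V :=
    { i with
      map_smul' := fun c v => by
        obtain ⟨a, rfl⟩ := Ideal.Quotient.mk_surjective c
        change i (a • v) = a • i v
        exact map_smul i a v }
  obtain ⟨r, hr⟩ := LinearMap.exists_leftInverse_of_injective j (LinearMap.ker_eq_bot.mpr hi)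
  refine ⟨r.restrictScalars A, LinearMap.ext fun v => ?_⟩
  exact LinearMap.congr_fun hr v

variable {A A' : Type u} [CommRing A] [CommRing A'] [Algebra A A']

/-- Elements of `V ⊗ P`, `P` killed by a maximal ideal `n` of `A'`, are detected by the linear maps
`P → A' / n`. -/
theorem eq_zero_of_functionals_right (n : Ideal A') [n.IsMaximal] {V P : Type u} [AddCommGroup V]
    [Module A V] [AddCommGroup P] [Module A P] [Module A' P] [IsScalarTower A A' P]
    (hP : ∀ a ∈ n, ∀ p : P, a • p = 0) (z : V ⊗[A] P)
    (h : ∀ φ : P →ₗ[A'] A' ⧸ n, (φ.restrictScalars A).lTensor V z = 0) : z = 0 := by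
  letI := Ideal.Quotient.field n
  have t : Module.IsTorsionBySet A' P (n : Set A') := fun v a => hP a.1 a.2 v
  letI : Module (A' ⧸ n) P := t.module
  have : IsScalarTower A' (A' ⧸ n) P := t.isScalarTower
  let b := Module.Free.chooseBasis (A' ⧸ n) P
  let e : P ≃ₗ[A'] (Module.Free.ChooseBasisIndex (A' ⧸ n) P →₀ A' ⧸ n) := b.repr.restrictScalars A'
  have h1 : TensorProduct.finsuppRight A A V (A' ⧸ n) _
      ((e.toLinearMap.restrictScalars A).lTensor V z) = 0 := by
    ext1 j
    rw [TensorProduct.finsuppRight_apply, Finsupp.zero_apply, ← LinearMap.comp_apply,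
      ← LinearMap.lTensor_comp]
    exact h ((Finsupp.lapply j) ∘ₗ e.toLinearMap)
  have h2 := (LinearEquiv.map_eq_zero_iff _).mp h1
  have h3 : Function.Injective ((e.toLinearMap.restrictScalars A).lTensor V) := by
    have : Function.LeftInverse ((e.symm.toLinearMap.restrictScalars A).lTensor V)
        ((e.toLinearMap.restrictScalars A).lTensor V) := by
      intro w
      rw [← LinearMap.comp_apply, ← LinearMap.lTensor_comp]
      have : (e.symm.toLinearMap.restrictScalars A) ∘ₗ (e.toLinearMap.restrictScalars A) =
          LinearMap.id := LinearMap.ext fun p => e.symm_apply_apply p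
      rw [this, LinearMap.lTensor_id, LinearMap.id_apply]
    exact this.injective
  exact h3 (by rw [h2, map_zero])

/-- Elements of `V ⊗ P`, `V` killed by a maximal ideal `n` of `B`, are detected by the linear maps
`V → B / n`. -/
theorem eq_zero_of_functionals_left (n : Ideal A') [n.IsMaximal] {V P : Type u} [AddCommGroup V]
    [Module A V] [AddCommGroup P] [Module A P] [Module A' P] [IsScalarTower A A' P]
    (hP : ∀ a ∈ n, ∀ p : P, a • p = 0) (z : P ⊗[A] V)
    (h : ∀ φ : P →ₗ[A'] A' ⧸ n, (φ.restrictScalars A).rTensor V z = 0) : z = 0 := by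
  have h1 : TensorProduct.comm A P V z = 0 := by
    refine eq_zero_of_functionals_right n hP _ fun φ => ?_
    have h3 : ∀ w : P ⊗[A] V, (φ.restrictScalars A).lTensor V (TensorProduct.comm A P V w) =
        TensorProduct.comm A (A' ⧸ n) V ((φ.restrictScalars A).rTensor V w) := by
      intro w
      induction w with
      | zero => simp
      | add x y hx hy => simp only [map_add, hx, hy]
      | tmul x y => rfl
    rw [h3, h φ, map_zero]
  exact (LinearEquiv.map_eq_zero_iff _).mp h1

/-- `w ⊗ 1 = 0` in `W ⊗ A / m` implies `w = 0` if `W` is killed by `m`. -/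
theorem eq_zero_of_tmul_one {A : Type u} [CommRing A] (m : Ideal A) {W : Type u} [AddCommGroup W]
    [Module A W] (hW : ∀ a ∈ m, ∀ w : W, a • w = 0) (w : W)
    (h : w ⊗ₜ[A] (Ideal.Quotient.mk m 1) = 0) : w = 0 := by
  have t : Module.IsTorsionBySet A W (m : Set A) := fun v a => hW a.1 a.2 v
  letI : Module (A ⧸ m) W := t.module
  have : IsScalarTower A (A ⧸ m) W := t.isScalarTower
  let g : W →ₗ[A] (A ⧸ m) →ₗ[A] W := LinearMap.mk₂ A (fun w c => c • w)
    (fun _ _ _ => smul_add _ _ _) (fun c w x => smul_comm _ _ _) (fun _ _ _ => add_smul _ _ _)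
    (fun c w x => smul_assoc _ _ _)
  have h1 := congrArg (TensorProduct.lift g) h
  rw [map_zero, TensorProduct.lift.tmul] at h1
  have h2 : (Ideal.Quotient.mk m 1) • w = 0 := h1
  rwa [map_one, one_smul] at h2

end Lin

end K123.Prim
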