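import Groth.Agent.EGA43.K123.PrimZ
import Groth.Agent.EGA43.K123.PrimLin
import Mathlib.RingTheory.LocalRing.ResidueField.Basic
import Mathlib.RingTheory.Nakayama

/-!
# Elements outside a prime over the closed points act injectively (primary residue extension)
-/

set_option autoImplicit false
set_option linter.style.haveILetI false
set_option linter.unusedSectionVars false
universe u
open TensorProduct IsLocalRing

namespace K123.Prim

section Res

variable {A B A' : Type u} [CommRing A] [CommRing B] [CommRing A'] [Algebra A B] [Algebra A A']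
  [IsLocalRing A] [IsLocalRing B] [IsLocalRing A'] [IsLocalHom (algebraMap A B)]
  [IsLocalHom (algebraMap A A')]

instance compatibleSMul_residue : TensorProduct.CompatibleSMul A (ResidueField A) (ResidueField A')
    (ResidueField B) where
  smul_tmul r m n := by
    obtain ⟨a, rfl⟩ := residue_surjective r
    have h1 : (residue A a) • m = a • m := algebraMap_smul (ResidueField A) a m
    have h2 : (residue A a) • n = a • n := algebraMap_smul (ResidueField A) a n
    rw [h1, h2, TensorProduct.smul_tmul]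

/-- `κ(A') ⊗_A κ(B) = κ(A') ⊗_{κ(A)} κ(B)`. -/
noncomputable def resEquiv : ResidueField A' ⊗[A] ResidueField B ≃ₐ[A]
    ResidueField A' ⊗[ResidueField A] ResidueField B :=
  (Algebra.TensorProduct.equivOfCompatibleSMul A (ResidueField A) A (ResidueField A')
    (ResidueField B)).symm

theorem eq_zero_of_mul_residue
    (hprim : ∀ a : ResidueField B, IsSeparable (ResidueField A) a →
      a ∈ (algebraMap (ResidueField A) (ResidueField B)).range)
    {s z : ResidueField A' ⊗[A] ResidueField B} (hs : ¬ IsNilpotent s) (hsz : s * z = 0) :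
    z = 0 := by
  let e := resEquiv (A := A) (B := B) (A' := A')
  have h1 : ¬ IsNilpotent (e s) := fun h => hs ((IsNilpotent.map_iff e.injective).mp h)
  have h2 : e s * e z = 0 := by rw [← map_mul, hsz, map_zero]
  exact (map_eq_zero_iff e e.injective).mp (K123.PrimZ.eq_zero_of_primary hprim h1 h2)

theorem injAct_residue
    (hprim : ∀ a : ResidueField B, IsSeparable (ResidueField A) a →
      a ∈ (algebraMap (ResidueField A) (ResidueField B)).range)
    (q : Ideal (A' ⊗[A] B)) [q.IsPrime]
    (h1 : (maximalIdeal A').map (Algebra.TensorProduct.includeLeft : A' →ₐ[A] A' ⊗[A] B) ≤ q)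
    (h2 : (maximalIdeal B).map (Algebra.TensorProduct.includeRight : B →ₐ[A] A' ⊗[A] B) ≤ q) :
    InjAct q (B ⧸ maximalIdeal B) (A' ⧸ maximalIdeal A') := by
  intro s hs z hz
  let ψ : A' ⊗[A] B →ₐ[A] (A' ⧸ maximalIdeal A') ⊗[A] (B ⧸ maximalIdeal B) :=
    Algebra.TensorProduct.map (Ideal.Quotient.mkₐ A (maximalIdeal A'))
      (Ideal.Quotient.mkₐ A (maximalIdeal B))
  let c := Algebra.TensorProduct.comm A (B ⧸ maximalIdeal B) (A' ⧸ maximalIdeal A')
  have key : ∀ (s : A' ⊗[A] B) (z : (B ⧸ maximalIdeal B) ⊗[A] (A' ⧸ maximalIdeal A')),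
      c (act (B ⧸ maximalIdeal B) (A' ⧸ maximalIdeal A') s z) = ψ s * c z := by
    intro s z
    induction s with
    | zero => simp
    | add a b ha hb => rw [map_add, LinearMap.add_apply, map_add, ha, hb, map_add, add_mul]
    | tmul a b =>
      induction z with
      | zero => simp
      | add x y hx hy => rw [map_add, map_add, hx, hy, map_add, mul_add]
      | tmul v p =>
        rw [act_tmul]
        simp only [c, ψ, Algebra.TensorProduct.comm_tmul, Algebra.TensorProduct.map_tmul,
          Algebra.TensorProduct.tmul_mul_tmul, Ideal.Quotient.mkₐ_eq_mk]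
        rfl
  have hn : ¬ IsNilpotent (ψ s) := by
    rintro ⟨n, hn⟩
    have h3 : s ^ n ∈ RingHom.ker ψ := by rw [RingHom.mem_ker, map_pow, hn]
    have h4 := Algebra.TensorProduct.map_ker (Ideal.Quotient.mkₐ A (maximalIdeal A'))
      (Ideal.Quotient.mkₐ A (maximalIdeal B)) (Ideal.Quotient.mkₐ_surjective A _)
      (Ideal.Quotient.mkₐ_surjective A _)
    have k1 : RingHom.ker (Ideal.Quotient.mkₐ A (maximalIdeal A')) = maximalIdeal A' :=
      Ideal.ext fun x => by
        rw [RingHom.mem_ker, Ideal.Quotient.mkₐ_eq_mk, Ideal.Quotient.eq_zero_iff_mem]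
    have k2 : RingHom.ker (Ideal.Quotient.mkₐ A (maximalIdeal B)) = maximalIdeal B :=
      Ideal.ext fun x => by
        rw [RingHom.mem_ker, Ideal.Quotient.mkₐ_eq_mk, Ideal.Quotient.eq_zero_iff_mem]
    rw [k1, k2] at h4
    rw [show RingHom.ker ψ = _ from h4] at h3
    exact hs (Ideal.IsPrime.mem_of_pow_mem ‹_› n ((sup_le h1 h2) h3))
  have h5 : ψ s * c z = 0 := by rw [← key, hz, map_zero]
  have h6 : c z = 0 := eq_zero_of_mul_residue (A := A) (B := B) (A' := A') hprim hn h5
  exact (map_eq_zero_iff c c.injective).mp h6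

end Res

section Dev

variable {A B A' : Type u} [CommRing A] [CommRing B] [CommRing A'] [Algebra A B] [Algebra A A']
  [IsLocalRing A] [IsLocalRing B] [IsLocalRing A']

theorem injAct_killed (q : Ideal (A' ⊗[A] B))
    (h : InjAct q (B ⧸ maximalIdeal B) (A' ⧸ maximalIdeal A'))
    (V : Type u) [AddCommGroup V] [Module A V] [Module B V] [IsScalarTower A B V]
    (hV : ∀ b ∈ maximalIdeal B, ∀ v : V, b • v = 0) :
    InjAct q V (A' ⧸ maximalIdeal A') := by
  intro s hs z hz
  refine eq_zero_of_functionals_left (maximalIdeal B) hV z fun φ => ?_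
  refine h s hs _ ?_
  rw [← rTensor_act, hz, map_zero]

theorem smul_top_pow_succ (V : Type u) [AddCommGroup V] [Module B V] (I : Ideal B) (n : ℕ)
    (h : I ^ (n + 1) • (⊤ : Submodule B V) = ⊥) :
    I ^ n • (⊤ : Submodule B (I • (⊤ : Submodule B V) : Submodule B V)) = ⊥ := by
  rw [eq_bot_iff]
  refine Submodule.smul_le.mpr fun r hr v _ => ?_
  rw [Submodule.mem_bot]
  apply Subtype.ext
  have h1 : r • (v : V) ∈ I ^ (n + 1) • (⊤ : Submodule B V) := by
    rw [pow_succ, mul_smul]
    exact Submodule.smul_mem_smul hr v.2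
  rw [h, Submodule.mem_bot] at h1
  exact h1

theorem injAct_pow (q : Ideal (A' ⊗[A] B))
    (h : InjAct q (B ⧸ maximalIdeal B) (A' ⧸ maximalIdeal A')) (n : ℕ) :
    ∀ (V : Type u) [AddCommGroup V] [Module A V] [Module B V] [IsScalarTower A B V]
      (_ : ∀ a ∈ maximalIdeal A, ∀ v : V, a • v = 0)
      (_ : maximalIdeal B ^ n • (⊤ : Submodule B V) = ⊥), InjAct q V (A' ⧸ maximalIdeal A') := by
  induction n with
  | zero =>
    intro V _ _ _ _ hA hn s hs z hz
    rw [pow_zero, Ideal.one_eq_top, Submodule.top_smul] at hn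
    have : Subsingleton V := (Submodule.subsingleton_iff B).mp (subsingleton_of_bot_eq_top hn.symm)
    exact Subsingleton.elim _ _
  | succ n ih =>
    intro V _ _ _ _ hA hn s hs z hz
    let V' : Submodule B V := maximalIdeal B • ⊤
    have hA' : ∀ a ∈ maximalIdeal A, ∀ v : V', a • v = 0 := fun a ha v =>
      Subtype.ext (hA a ha v)
    have hq : InjAct q (V ⧸ V') (A' ⧸ maximalIdeal A') := by
      refine injAct_killed q h _ fun b hb v => ?_
      obtain ⟨v, rfl⟩ := V'.mkQ_surjective v
      rw [← map_smul]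
      exact (Submodule.Quotient.mk_eq_zero _).mpr (Submodule.smul_mem_smul hb trivial)
    have h1 : (V'.mkQ.restrictScalars A).rTensor _ z = 0 :=
      hq s hs _ (by rw [← rTensor_act, hz, map_zero])
    have hex : Function.Exact (V'.subtype.restrictScalars A) (V'.mkQ.restrictScalars A) :=
      LinearMap.exact_subtype_mkQ V'
    obtain ⟨z', rfl⟩ := (rTensor_exact (A' ⧸ maximalIdeal A') hex V'.mkQ_surjective z).mp h1
    obtain ⟨r, hr⟩ := exists_retract (maximalIdeal A) hA' hA (V'.subtype.restrictScalars A)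
      V'.injective_subtype
    have hinj : Function.Injective ((V'.subtype.restrictScalars A).rTensor (A' ⧸ maximalIdeal A')) := by
      have : Function.LeftInverse (r.rTensor (A' ⧸ maximalIdeal A'))
          ((V'.subtype.restrictScalars A).rTensor (A' ⧸ maximalIdeal A')) := by
        intro w
        rw [← LinearMap.comp_apply, ← LinearMap.rTensor_comp, hr, LinearMap.rTensor_id,
          LinearMap.id_apply]
      exact this.injective
    have h2 : act V' (A' ⧸ maximalIdeal A') s z' = 0 := by
      apply hinj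
      rw [rTensor_act, map_zero]
      exact hz
    rw [ih V' hA' (smul_top_pow_succ V _ n hn) s hs z' h2, map_zero]

theorem tmul_mk_surjective {A : Type u} [CommRing A] (m : Ideal A) {V : Type u} [AddCommGroup V]
    [Module A V] (w : V ⊗[A] (A ⧸ m)) : ∃ v : V, v ⊗ₜ[A] (Ideal.Quotient.mk m 1) = w := by
  induction w with
  | zero => exact ⟨0, TensorProduct.zero_tmul _ _⟩
  | add x y hx hy =>
    obtain ⟨v, rfl⟩ := hx
    obtain ⟨v', rfl⟩ := hy
    exact ⟨v + v', TensorProduct.add_tmul _ _ _⟩
  | tmul v c =>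
    obtain ⟨a, rfl⟩ := Ideal.Quotient.mk_surjective c
    refine ⟨a • v, ?_⟩
    rw [TensorProduct.smul_tmul]
    congr 1
    rw [Algebra.smul_def, Ideal.Quotient.algebraMap_eq, ← map_mul, mul_one]

theorem eq_zero_of_forall_mkQ [IsNoetherianRing B] (V : Type u) [AddCommGroup V] [Module A V]
    [Module B V] [IsScalarTower A B V] [Module.Finite B V]
    (hA : ∀ a ∈ maximalIdeal A, ∀ v : V, a • v = 0) (P : Type u) [AddCommGroup P] [Module A P]
    (hP : ∀ a ∈ maximalIdeal A, ∀ p : P, a • p = 0) (z : V ⊗[A] P)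
    (h : ∀ n : ℕ, ((maximalIdeal B ^ n • (⊤ : Submodule B V)).mkQ.restrictScalars A).rTensor P z = 0) :
    z = 0 := by
  refine eq_zero_of_functionals_right (A := A) (A' := A) (maximalIdeal A) hP z fun φ => ?_
  obtain ⟨v, hv⟩ := tmul_mk_surjective (maximalIdeal A) ((φ.restrictScalars A).lTensor V z)
  have h1 : v = 0 := by
    have h2 := Ideal.iInf_pow_smul_eq_bot_of_isLocalRing (R := B) (M := V) (maximalIdeal B)
      (Ideal.IsPrime.ne_top inferInstance)
    rw [← Submodule.mem_bot B, ← h2, Submodule.mem_iInf]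
    intro n
    rw [← Submodule.Quotient.mk_eq_zero]
    refine eq_zero_of_tmul_one (maximalIdeal A) (fun a ha w => ?_) _ ?_
    · obtain ⟨w, rfl⟩ := Submodule.mkQ_surjective _ w
      have := hA a ha w
      rw [← LinearMap.restrictScalars_apply A, ← map_smul, this, map_zero]
    · have h3 : ((maximalIdeal B ^ n • (⊤ : Submodule B V)).mkQ.restrictScalars A).rTensor
          (A ⧸ maximalIdeal A) ((φ.restrictScalars A).lTensor V z) = 0 := by
        rw [← LinearMap.comp_apply, LinearMap.rTensor_comp_lTensor, ← LinearMap.lTensor_comp_rTensor,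
          LinearMap.comp_apply, h n, map_zero]
      rw [← hv, LinearMap.rTensor_tmul] at h3
      exact h3
  rw [← hv, h1, TensorProduct.zero_tmul]

theorem injAct_finite [IsNoetherianRing B] [IsLocalHom (algebraMap A A')] (q : Ideal (A' ⊗[A] B))
    (h : InjAct q (B ⧸ maximalIdeal B) (A' ⧸ maximalIdeal A'))
    (V : Type u) [AddCommGroup V] [Module A V] [Module B V] [IsScalarTower A B V]
    [Module.Finite B V] (hA : ∀ a ∈ maximalIdeal A, ∀ v : V, a • v = 0) :
    InjAct q V (A' ⧸ maximalIdeal A') := by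
  intro s hs z hz
  have hP : ∀ a ∈ maximalIdeal A, ∀ p : A' ⧸ maximalIdeal A', a • p = 0 := by
    intro a ha p
    obtain ⟨p, rfl⟩ := Ideal.Quotient.mk_surjective p
    rw [← IsScalarTower.algebraMap_smul A' a, Algebra.smul_def, Ideal.Quotient.algebraMap_eq,
      ← map_mul, Ideal.Quotient.eq_zero_iff_mem]
    exact Ideal.mul_mem_right _ _ (map_maximalIdeal_le (algebraMap A A')
      (Ideal.mem_map_of_mem _ ha))
  refine eq_zero_of_forall_mkQ (B := B) V hA _ hP z fun n => ?_
  refine injAct_pow q h n _ (fun a ha w => ?_) ?_ s hs _ ?_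
  · obtain ⟨w, rfl⟩ := Submodule.mkQ_surjective _ w
    rw [← LinearMap.restrictScalars_apply A, ← map_smul, hA a ha w, map_zero]
  · rw [eq_bot_iff]
    refine Submodule.smul_le.mpr fun r hr v _ => ?_
    obtain ⟨v, rfl⟩ := Submodule.mkQ_surjective _ v
    rw [← map_smul, Submodule.mem_bot]
    exact (Submodule.Quotient.mk_eq_zero _).mpr (Submodule.smul_mem_smul hr trivial)
  · rw [← rTensor_act, hz, map_zero]

end Dev

end K123.Prim
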