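import Groth.Agent.EGA43.K123.PrimGeom
import Groth.Agent.EGA43.K120.NilpotentFamily
import Groth.Agent.Ega43.FlatAdic
import Groth.Agent.FormalB.PullCoh
import Groth.Agent.Algz.K574.PiFP
import Groth.Agent.S0018

/-!
# Descent of flatness along families of local rings, primary residue field extension
-/

set_option autoImplicit false
set_option linter.style.haveILetI false
set_option linter.unusedSectionVars false
universe u
open CategoryTheory CategoryTheory.Limits AlgebraicGeometry TensorProduct IsLocalRing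

namespace K123.Prim

open Groth.Agent Groth.Agent.Ega43.StalkPull

attribute [local instance] Algebra.TensorProduct.rightAlgebra

section Alg

variable {A : Type u} [CommRing A] [IsLocalRing A] (M : Type u) [AddCommGroup M] [Module A M]

/-- Base change of flatness along a jointly injective family, `m_A` nilpotent. -/
theorem flat_of_nilpotent_family (hA : IsNilpotent (maximalIdeal A)) {ι : Type u} (A' : ι → Type u)
    [∀ i, CommRing (A' i)] [∀ i, Algebra A (A' i)]
    (hu : ∀ a : A, (∀ i, algebraMap A (A' i) a = 0) → a = 0)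
    (hflat : ∀ i, Module.Flat (A' i) (A' i ⊗[A] M)) : Module.Flat A M := by
  refine K120.NilpotentFamily.flat_of_nilpotent_of_projective (B := A') M (maximalIdeal A) hA hu ?_ hflat
  letI := Ideal.Quotient.field (maximalIdeal A)
  infer_instance

/-- The same over the quotient by an ideal containing a power of the maximal ideal. -/
theorem flat_quotient_of_family (𝔞 : Ideal A) (n : ℕ) (hn : maximalIdeal A ^ n ≤ 𝔞)
    {ι : Type u} (A' : ι → Type u) [∀ i, CommRing (A' i)] [∀ i, Algebra A (A' i)]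
    (hu : ∀ a : A, a ∈ 𝔞 ↔ (∀ i, algebraMap A (A' i) a = 0))
    (hflat : ∀ i, Module.Flat (A' i) (A' i ⊗[A] M)) :
    Module.Flat (A ⧸ 𝔞) ((A ⧸ 𝔞) ⊗[A] M) := by
  by_cases h𝔞 : 𝔞 = ⊤
  · have : Subsingleton (A ⧸ 𝔞) := Ideal.Quotient.subsingleton_iff.mpr h𝔞
    have : Subsingleton ((A ⧸ 𝔞) ⊗[A] M) := Module.subsingleton (A ⧸ 𝔞) _
    exact inferInstance
  have hnt : Nontrivial (A ⧸ 𝔞) := Ideal.Quotient.nontrivial_iff.mpr h𝔞
  have hloc : IsLocalRing (A ⧸ 𝔞) :=
    IsLocalRing.of_surjective' (Ideal.Quotient.mk 𝔞) Ideal.Quotient.mk_surjective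
  have hker : ∀ i, 𝔞 ≤ RingHom.ker (algebraMap A (A' i)) := fun i a ha => (hu a).mp ha i
  letI : ∀ i, Algebra (A ⧸ 𝔞) (A' i) := fun i =>
    (Ideal.Quotient.lift 𝔞 (algebraMap A (A' i)) (fun a ha => hker i ha)).toAlgebra
  haveI : ∀ i, IsScalarTower A (A ⧸ 𝔞) (A' i) := fun i =>
    IsScalarTower.of_algebraMap_eq fun a => rfl
  refine flat_of_nilpotent_family (A := A ⧸ 𝔞) ((A ⧸ 𝔞) ⊗[A] M) ?_ A' ?_ fun i => ?_
  · refine ⟨n, ?_⟩
    have h1 : maximalIdeal (A ⧸ 𝔞) = (maximalIdeal A).map (Ideal.Quotient.mk 𝔞) := by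
      have : IsLocalHom (Ideal.Quotient.mk 𝔞) :=
        Function.Surjective.isLocalHom _ Ideal.Quotient.mk_surjective
      exact (IsLocalRing.map_maximalIdeal_of_surjective _ Ideal.Quotient.mk_surjective).symm
    rw [h1, ← Ideal.map_pow]
    exact (Ideal.map_eq_bot_iff_le_ker _).mpr (by rw [Ideal.mk_ker]; exact hn)
  · intro c hc
    obtain ⟨a, rfl⟩ := Ideal.Quotient.mk_surjective c
    exact Ideal.Quotient.eq_zero_iff_mem.mpr ((hu a).mpr fun i => hc i)
  · exact Module.Flat.of_linearEquiv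
      (AlgebraTensorModule.cancelBaseChange A (A ⧸ 𝔞) (A' i) (A' i) M)

end Alg

section Point

variable {X Y : Scheme.{u}} (f : X ⟶ Y) (F : X.Modules)

/-- There is a point above the closed point at which the pullback of `F` is flat. -/
def HasFlatPt (x : X) (A' : Type u) [CommRing A'] [IsLocalRing A']
    (g : Spec (CommRingCat.of A') ⟶ Y) : Prop :=
  ∃ x' : ↥(pullback f g), pullback.fst f g x' = x ∧ pullback.snd f g x' = closedPoint A' ∧
    FlatMod.IsFlatOverAt (pullback.snd f g) ((Scheme.Modules.pullback (pullback.fst f g)).obj F) x'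

variable {f F}

theorem HasFlatPt.baseChange {x : X} {A' : Type u} [CommRing A'] [IsLocalRing A']
    {g : Spec (CommRingCat.of A') ⟶ Y} (h : HasFlatPt f F x A' g) {A'' : Type u} [CommRing A'']
    [IsLocalRing A''] (ψ : A' →+* A'') [IsLocalHom ψ] :
    HasFlatPt f F x A'' (Spec.map (CommRingCat.ofHom ψ) ≫ g) := by
  obtain ⟨x', h1, h2, h3⟩ := h
  let r := Spec.map (CommRingCat.ofHom ψ)
  have H : IsPullback (pullback.lift (pullback.fst f (r ≫ g)) (pullback.snd f (r ≫ g) ≫ r)
      (by rw [pullback.condition, Category.assoc])) (pullback.snd f (r ≫ g)) (pullback.snd f g) r :=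
    IsPullback.of_right (h₁₂ := pullback.fst f g) (h₂₂ := g) (v₁₃ := f)
      (by rw [pullback.lift_fst]; exact (IsPullback.of_hasPullback f (r ≫ g)))
      (pullback.lift_snd _ _ _) (IsPullback.of_hasPullback f g)
  have h4 : r (closedPoint A'') = closedPoint A' := comap_closedPoint ψ
  obtain ⟨z, hz1, hz2⟩ := Scheme.exists_preimage_of_isPullback H x' (closedPoint A'')
    (by rw [h2, h4])
  refine ⟨z, ?_, hz2, ?_⟩
  · rw [← h1, ← hz1, ← Scheme.Hom.comp_apply, pullback.lift_fst]
  · subst hz1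
    exact K120.FlatPt.isFlatOverAt_pullback_comp H (pullback.lift_fst _ _ _) z h3

variable {A B : Type u} [CommRing A] [CommRing B] [Algebra A B]
  [IsLocalRing A] [IsLocalRing B] [IsNoetherianRing B] [IsLocalHom (algebraMap A B)]
  {a : Spec (CommRingCat.of A) ⟶ Y} [Mono a] {b : Spec (CommRingCat.of B) ⟶ X} [Flat b]
  (h : b ≫ f = Spec.map (CommRingCat.ofHom (algebraMap A B)) ≫ a)
  {M : Type u} [AddCommGroup M] [Module A M] [Module B M] [IsScalarTower A B M]
  (e : (Scheme.Modules.pullback b).obj F ≅ tilde (ModuleCat.of B M))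

include h e in
theorem flat_tensor_of_hasFlatPt [Module.Finite B M]
    (hprim : ∀ a : ResidueField B, IsSeparable (ResidueField A) a →
      a ∈ (algebraMap (ResidueField A) (ResidueField B)).range)
    (A' : Type u) [CommRing A'] [IsLocalRing A'] [Algebra A A'] [IsLocalHom (algebraMap A A')]
    (hnil : IsNilpotent ((maximalIdeal A).map (algebraMap A A')))
    (hpt : HasFlatPt f F (b (closedPoint B)) A' (Spec.map (CommRingCat.ofHom (algebraMap A A')) ≫ a)) :
    Module.Flat A' (A' ⊗[A] M) := by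
  obtain ⟨x', h1, h2, h3⟩ := hpt
  obtain ⟨q, hq, h4, h5, h6⟩ := exists_prime_flatAt f a b h A' F M e x' h1 h2 h3
  exact flat_of_flatAt M hprim hnil q h4 h5 h6

include h e in
theorem isFlatOverAt_of_flat [Flat a] (hM : Module.Flat A M) :
    FlatMod.IsFlatOverAt f F (b (closedPoint B)) := by
  refine (K582.PullFlat.isFlatOverAt_iff_pullback b f F (closedPoint B)
    (Flat.stalkMap b (closedPoint B))).mpr ?_
  rw [h]
  refine Flat2C.StrictMPull.isFlatOverAt_comp _ a _ _ ?_
  refine Models2.FlatIso.isFlatOverAt_of_iso _ e.symm _ ?_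
  refine (S2394.flatAt_iff (CommRingCat.ofHom (algebraMap A B)) (ModuleCat.of B M) _).mpr ?_
  letI i1 : Module B ((tilde (R := CommRingCat.of B) (ModuleCat.of B M)).presheaf.stalk
    (closedPoint B : Spec (CommRingCat.of B))) :=
    S2394.modStalk (CommRingCat.of B) (ModuleCat.of B M) (closedPoint B)
  letI i2 : Module A ((tilde (R := CommRingCat.of B) (ModuleCat.of B M)).presheaf.stalk
    (closedPoint B : Spec (CommRingCat.of B))) :=
    Module.compHom _ ((S2394.tos (CommRingCat.of B) (closedPoint B)).comp (algebraMap A B))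
  haveI : IsScalarTower A B ((tilde (R := CommRingCat.of B) (ModuleCat.of B M)).presheaf.stalk
    (closedPoint B : Spec (CommRingCat.of B))) :=
    IsScalarTower.of_algebraMap_smul fun _ _ => rfl
  obtain ⟨g, hg⟩ := S2394.exists_isLocalizedModule_stalk (CommRingCat.of B) (ModuleCat.of B M)
    (closedPoint B)
  exact S2394.flat_of_isLocalizedModule_right (A := A) (B := B) (M := M)
    (closedPoint B : PrimeSpectrum B).asIdeal.primeCompl g

end Point

section Abs

variable {X Y : Scheme.{u}} {f : X ⟶ Y} {F : X.Modules}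
  {A B : Type u} [CommRing A] [CommRing B] [Algebra A B]
  [IsLocalRing A] [IsLocalRing B] [IsNoetherianRing B] [IsLocalHom (algebraMap A B)]
  {a : Spec (CommRingCat.of A) ⟶ Y} [Mono a] [Flat a] {b : Spec (CommRingCat.of B) ⟶ X} [Flat b]
  (h : b ≫ f = Spec.map (CommRingCat.ofHom (algebraMap A B)) ≫ a)
  {M : ModuleCat.{u} (CommRingCat.of B)} [Module.Finite B M]
  (e : (Scheme.Modules.pullback b).obj F ≅ tilde M)

theorem isLocalHom_of_isNilpotent (hA : IsNilpotent (maximalIdeal A)) {A' : Type u} [CommRing A']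
    [IsLocalRing A'] (φ : A →+* A') : IsLocalHom φ := by
  refine ((IsLocalRing.local_hom_TFAE _).out 2 0).mp ?_
  rw [Ideal.map_le_iff_le_comap]
  intro a ha
  rw [Ideal.mem_comap, mem_maximalIdeal, mem_nonunits_iff]
  obtain ⟨n, hn⟩ := hA
  have h1 : a ^ n = 0 := by
    have : a ^ n ∈ (maximalIdeal A) ^ n := Ideal.pow_mem_pow ha n
    rw [hn] at this
    exact this
  intro hun
  have h2 := hun.pow n
  rw [← map_pow, h1, map_zero] at h2
  exact not_isUnit_zero h2

include h e in
theorem abs_artin (hA : IsNilpotent (maximalIdeal A))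
    (hprim : ∀ a : ResidueField B, IsSeparable (ResidueField A) a →
      a ∈ (algebraMap (ResidueField A) (ResidueField B)).range)
    {ι : Type u} (A' : ι → Type u) [∀ i, CommRing (A' i)] [∀ i, IsLocalRing (A' i)]
    (φ : ∀ i, A →+* A' i) (hu : ∀ a, (∀ i, φ i a = 0) → a = 0)
    (hpt : ∀ i, HasFlatPt f F (b (closedPoint B)) (A' i)
      (Spec.map (CommRingCat.ofHom (φ i)) ≫ a)) :
    FlatMod.IsFlatOverAt f F (b (closedPoint B)) := by
  letI : Module A M := Module.compHom M (algebraMap A B)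
  haveI : IsScalarTower A B M := IsScalarTower.of_algebraMap_smul fun _ _ => rfl
  refine isFlatOverAt_of_flat (M := M) h e ?_
  letI : ∀ i, Algebra A (A' i) := fun i => (φ i).toAlgebra
  refine flat_of_nilpotent_family M hA A' hu fun i => ?_
  haveI : IsLocalHom (algebraMap A (A' i)) := isLocalHom_of_isNilpotent hA (φ i)
  refine flat_tensor_of_hasFlatPt (M := M) h e hprim (A' i) ?_ (hpt i)
  obtain ⟨n, hn⟩ := hA
  exact ⟨n, by rw [← Ideal.map_pow, hn]; exact Ideal.map_bot⟩

include h e in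
theorem abs_adic [IsNoetherianRing A]
    (hprim : ∀ a : ResidueField B, IsSeparable (ResidueField A) a →
      a ∈ (algebraMap (ResidueField A) (ResidueField B)).range)
    {ι : Type u} (A' : ι → Type u) [∀ i, CommRing (A' i)] [∀ i, IsLocalRing (A' i)]
    (φ : ∀ i, A →+* A' i) [∀ i, IsLocalHom (φ i)]
    (htop : ∀ N : ℕ, ∃ s : Finset (ι × ℕ),
      ⨅ p ∈ s, Ideal.comap (φ p.1) (maximalIdeal (A' p.1) ^ p.2) ≤ maximalIdeal A ^ N)
    (hpt : ∀ i, HasFlatPt f F (b (closedPoint B)) (A' i)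
      (Spec.map (CommRingCat.ofHom (φ i)) ≫ a)) :
    FlatMod.IsFlatOverAt f F (b (closedPoint B)) := by
  letI : Module A M := Module.compHom M (algebraMap A B)
  haveI : IsScalarTower A B M := IsScalarTower.of_algebraMap_smul fun _ _ => rfl
  refine isFlatOverAt_of_flat (M := M) h e ?_
  refine Ega43.FlatAdic.flat_of_forall_exists_le_pow (S := B) fun N => ?_
  obtain ⟨s, hs⟩ := htop N
  refine ⟨_, hs, ?_⟩
  let J := {p : ι × ℕ // p ∈ s ∧ p.2 ≠ 0}
  let A'' : J → Type u := fun p => A' p.1.1 ⧸ maximalIdeal (A' p.1.1) ^ p.1.2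
  have hlt : ∀ p : J, maximalIdeal (A' p.1.1) ^ p.1.2 ≠ ⊤ := fun p =>
    ne_top_of_le_ne_top (Ideal.IsPrime.ne_top inferInstance) (Ideal.pow_le_self p.2.2)
  haveI : ∀ p : J, Nontrivial (A'' p) := fun p => Ideal.Quotient.nontrivial_iff.mpr (hlt p)
  haveI : ∀ p : J, IsLocalRing (A'' p) := fun p =>
    IsLocalRing.of_surjective' (Ideal.Quotient.mk _) Ideal.Quotient.mk_surjective
  haveI hl : ∀ p : J, IsLocalHom (Ideal.Quotient.mk (maximalIdeal (A' p.1.1) ^ p.1.2)) := fun p =>
    Function.Surjective.isLocalHom _ Ideal.Quotient.mk_surjective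
  letI : ∀ p : J, Algebra A (A'' p) := fun p =>
    ((Ideal.Quotient.mk (maximalIdeal (A' p.1.1) ^ p.1.2)).comp (φ p.1.1)).toAlgebra
  haveI : ∀ p : J, IsLocalHom (algebraMap A (A'' p)) := fun p =>
    RingHom.isLocalHom_comp _ _
  have hmem : ∀ (p : J) (a : A), algebraMap A (A'' p) a = 0 ↔
      a ∈ Ideal.comap (φ p.1.1) (maximalIdeal (A' p.1.1) ^ p.1.2) := fun p a =>
    Ideal.Quotient.eq_zero_iff_mem
  have hpow : ∀ (p : J) (n : ℕ) (_ : p.1.2 ≤ n) (a : A) (_ : a ∈ maximalIdeal A ^ n),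
      algebraMap A (A'' p) a = 0 := by
    intro p n hn a ha
    rw [hmem, Ideal.mem_comap]
    have h1 : (maximalIdeal A ^ n).map (φ p.1.1) ≤ maximalIdeal (A' p.1.1) ^ n := by
      rw [Ideal.map_pow]
      exact Ideal.pow_right_mono (map_maximalIdeal_le (φ p.1.1)) n
    exact Ideal.pow_le_pow_right hn (h1 (Ideal.mem_map_of_mem _ ha))
  refine flat_quotient_of_family M _ (s.sup Prod.snd) ?_ A'' (fun a => ?_) fun p => ?_
  · intro a ha
    simp only [Submodule.mem_iInf]
    intro p hp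
    by_cases h0 : p.2 = 0
    · rw [h0, pow_zero, Ideal.one_eq_top, Ideal.comap_top]
      trivial
    · exact (hmem ⟨p, hp, h0⟩ a).mp (hpow ⟨p, hp, h0⟩ _ (Finset.le_sup (f := Prod.snd) hp) a ha)
  · simp only [Submodule.mem_iInf]
    constructor
    · intro h1 p
      exact (hmem p a).mpr (h1 p.1 p.2.1)
    · intro h1 p hp
      by_cases h0 : p.2 = 0
      · rw [h0, pow_zero, Ideal.one_eq_top, Ideal.comap_top]
        trivial
      · exact (hmem ⟨p, hp, h0⟩ a).mp (h1 ⟨p, hp, h0⟩)
  · refine flat_tensor_of_hasFlatPt (M := M) h e hprim (A'' p) ⟨p.1.2, ?_⟩ ?_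
    · rw [← Ideal.map_pow]
      refine (Ideal.map_eq_bot_iff_le_ker _).mpr fun a ha => ?_
      exact hpow p _ le_rfl a ha
    · have h1 := (hpt p.1.1).baseChange (Ideal.Quotient.mk (maximalIdeal (A' p.1.1) ^ p.1.2))
      have h2 : Spec.map (CommRingCat.ofHom (Ideal.Quotient.mk (maximalIdeal (A' p.1.1) ^ p.1.2))) ≫
          Spec.map (CommRingCat.ofHom (φ p.1.1)) ≫ a =
          Spec.map (CommRingCat.ofHom (algebraMap A (A'' p))) ≫ a := by
        rw [← Category.assoc, ← Spec.map_comp, ← CommRingCat.ofHom_comp]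
      rw [← h2]
      exact h1

end Abs

section Cat

variable {X Y : Scheme.{u}} {f : X ⟶ Y} {F : X.Modules} {x : X}
  {A B : CommRingCat.{u}} (σ : A ⟶ B) [IsLocalRing A] [IsLocalRing B] [IsNoetherianRing B]
  [IsLocalHom σ.hom] {a : Spec A ⟶ Y} [Mono a] [Flat a] {b : Spec B ⟶ X} [Flat b]
  (h : b ≫ f = Spec.map σ ≫ a) (hc : b (closedPoint B) = x)
  {M : ModuleCat.{u} B} [Module.Finite B M]
  (e : (Scheme.Modules.pullback b).obj F ≅ tilde M)

include h hc e in
theorem cat_artin (hA : IsNilpotent (maximalIdeal A))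
    (hprim : letI := (ResidueField.map σ.hom).toAlgebra
      ∀ a : ResidueField B, IsSeparable (ResidueField A) a → a ∈ (ResidueField.map σ.hom).range)
    {ι : Type u} (A' : ι → Type u) [∀ i, CommRing (A' i)] [∀ i, IsLocalRing (A' i)]
    (φ : ∀ i, (A : Type u) →+* A' i) (hu : ∀ a, (∀ i, φ i a = 0) → a = 0)
    (hpt : ∀ i, HasFlatPt f F x (A' i) (Spec.map (CommRingCat.ofHom (φ i)) ≫ a)) :
    FlatMod.IsFlatOverAt f F x := by
  subst hc
  letI : Algebra A B := σ.hom.toAlgebra
  haveI : IsLocalHom (algebraMap A B) := inferInstanceAs (IsLocalHom σ.hom)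
  exact abs_artin (A := A) (B := B) (a := a) (b := b) (M := M) h e hA hprim A' φ hu hpt

include h hc e in
theorem cat_adic [IsNoetherianRing A]
    (hprim : letI := (ResidueField.map σ.hom).toAlgebra
      ∀ a : ResidueField B, IsSeparable (ResidueField A) a → a ∈ (ResidueField.map σ.hom).range)
    {ι : Type u} (A' : ι → Type u) [∀ i, CommRing (A' i)] [∀ i, IsLocalRing (A' i)]
    (φ : ∀ i, (A : Type u) →+* A' i) [∀ i, IsLocalHom (φ i)]
    (htop : ∀ N : ℕ, ∃ s : Finset (ι × ℕ),
      ⨅ p ∈ s, Ideal.comap (φ p.1) (maximalIdeal (A' p.1) ^ p.2) ≤ maximalIdeal A ^ N)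
    (hpt : ∀ i, HasFlatPt f F x (A' i) (Spec.map (CommRingCat.ofHom (φ i)) ≫ a)) :
    FlatMod.IsFlatOverAt f F x := by
  subst hc
  letI : Algebra A B := σ.hom.toAlgebra
  haveI : IsLocalHom (algebraMap A B) := inferInstanceAs (IsLocalHom σ.hom)
  exact abs_adic (A := A) (B := B) (a := a) (b := b) (M := M) h e hprim A' φ htop hpt

end Cat

section Final

variable {X Y : Scheme.{u}} [IsLocallyNoetherian X] (f : X ⟶ Y) (F : X.Modules) (x : X)

/-- The module on `Spec O_{X,x}`. -/
theorem exists_model (hF : Coh.IsCoh F) : ∃ M : ModuleCat.{u} (X.presheaf.stalk x),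
    Module.Finite (X.presheaf.stalk x) M ∧
      Nonempty ((Scheme.Modules.pullback (X.fromSpecStalk x)).obj F ≅ tilde M) := by
  have h1 : Coh.IsCoh ((Scheme.Modules.pullback (X.fromSpecStalk x)).obj F) :=
    FormalB.PullCoh.isCoh_pullback _ hF
  obtain ⟨M, hM, hiso⟩ := K574.PiFP.exists_tilde _ ((S0018.result _ _).mp h1)
  exact ⟨M, inferInstance, hiso⟩

/-- Artinian base: flatness from a jointly injective family of local rings. -/
theorem main_artin (hF : Coh.IsCoh F)
    (hA : IsNilpotent (maximalIdeal (Y.presheaf.stalk (f x))))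
    (hprim : letI := (f.residueFieldMap x).hom.toAlgebra
      ∀ a : ↑(X.residueField x), IsSeparable ↑(Y.residueField (f x)) a →
        a ∈ (f.residueFieldMap x).hom.range)
    {ι : Type u} (A' : ι → Type u) [∀ i, CommRing (A' i)] [∀ i, IsLocalRing (A' i)]
    (φ : ∀ i, (Y.presheaf.stalk (f x) : Type u) →+* A' i)
    (hu : ∀ a, (∀ i, φ i a = 0) → a = 0)
    (hpt : ∀ i, HasFlatPt f F x (A' i)
      (Spec.map (CommRingCat.ofHom (φ i)) ≫ Y.fromSpecStalk (f x))) :
    FlatMod.IsFlatOverAt f F x := by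
  obtain ⟨M, hM, ⟨e⟩⟩ := exists_model F x hF
  haveI := flat_fromSpecStalk X x
  haveI := flat_fromSpecStalk Y (f x)
  exact cat_artin (f.stalkMap x) (Scheme.SpecMap_stalkMap_fromSpecStalk f).symm
    Scheme.fromSpecStalk_closedPoint e hA hprim A' φ hu hpt

/-- Adic version, locally Noetherian base. -/
theorem main_adic [IsLocallyNoetherian Y] (hF : Coh.IsCoh F)
    (hprim : letI := (f.residueFieldMap x).hom.toAlgebra
      ∀ a : ↑(X.residueField x), IsSeparable ↑(Y.residueField (f x)) a →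
        a ∈ (f.residueFieldMap x).hom.range)
    {ι : Type u} (A' : ι → Type u) [∀ i, CommRing (A' i)] [∀ i, IsLocalRing (A' i)]
    (φ : ∀ i, (Y.presheaf.stalk (f x) : Type u) →+* A' i) [∀ i, IsLocalHom (φ i)]
    (htop : ∀ N : ℕ, ∃ s : Finset (ι × ℕ),
      ⨅ p ∈ s, Ideal.comap (φ p.1) (maximalIdeal (A' p.1) ^ p.2) ≤
        maximalIdeal ↑(Y.presheaf.stalk (f x)) ^ N)
    (hpt : ∀ i, HasFlatPt f F x (A' i)
      (Spec.map (CommRingCat.ofHom (φ i)) ≫ Y.fromSpecStalk (f x))) :
    FlatMod.IsFlatOverAt f F x := by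
  obtain ⟨M, hM, ⟨e⟩⟩ := exists_model F x hF
  haveI := flat_fromSpecStalk X x
  haveI := flat_fromSpecStalk Y (f x)
  exact cat_adic (f.stalkMap x) (Scheme.SpecMap_stalkMap_fromSpecStalk f).symm
    Scheme.fromSpecStalk_closedPoint e hprim A' φ htop hpt

end Final

end K123.Prim
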