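import Groth.Agent.VarietyA.GeomIrrF
import Mathlib.RingTheory.AlgebraicIndependent.TranscendenceBasis
import Mathlib.RingTheory.TensorProduct.MvPolynomial
import Mathlib.RingTheory.Ideal.GoingUp
import Mathlib.RingTheory.Flat.Localization

/-!
# Zero divisors in a tensor product of fields with irreducible spectrum

`eq_zero_of_mul_eq_zero`: if `nilradical (K ⊗[k] L)` is prime (e.g. `L / k` primary), the zero
divisors of `K ⊗[k] L` are nilpotent.
-/

set_option autoImplicit false
open TensorProduct
universe u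

namespace K123.PrimZ

/-- If the nilradical of the tensor product `K ⊗[k] L` of two field extensions is prime, every
non-nilpotent element is a nonzerodivisor. -/
theorem eq_zero_of_mul_eq_zero {k K L : Type u} [Field k] [Field K] [Field L]
    [Algebra k K] [Algebra k L] (hp : (nilradical (K ⊗[k] L)).IsPrime) {s z : K ⊗[k] L}
    (hs : ¬ IsNilpotent s) (hsz : s * z = 0) : z = 0 := by
  obtain ⟨ι, x, hx⟩ := exists_isTranscendenceBasis' k K
  letI : Algebra (MvPolynomial ι k) K := (MvPolynomial.aeval x).toAlgebra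
  haveI : IsScalarTower k (MvPolynomial ι k) K :=
    IsScalarTower.of_algebraMap_eq' (MvPolynomial.aeval x).comp_algebraMap.symm
  have hinj : Function.Injective (algebraMap (MvPolynomial ι k) K) := hx.1
  haveI hfaith : FaithfulSMul (MvPolynomial ι k) K := (faithfulSMul_iff_algebraMap_injective _ _).2 hinj
  haveI hflat : Module.Flat (MvPolynomial ι k) K := by
    letI : Algebra (FractionRing (MvPolynomial ι k)) K := FractionRing.liftAlgebra _ K
    haveI : Module.Flat (MvPolynomial ι k) (FractionRing (MvPolynomial ι k)) :=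
      IsLocalization.flat _ (nonZeroDivisors (MvPolynomial ι k))
    exact Module.Flat.trans (MvPolynomial ι k) (FractionRing (MvPolynomial ι k)) K
  let e₀ : (MvPolynomial ι k) ⊗[k] L ≃+* MvPolynomial ι L :=
    (Algebra.TensorProduct.comm k (MvPolynomial ι k) L).toRingEquiv.trans
      (MvPolynomial.algebraTensorAlgEquiv k L).toRingEquiv
  haveI hdom : IsDomain ((MvPolynomial ι k) ⊗[k] L) := e₀.toMulEquiv.isDomain _
  let φ : (MvPolynomial ι k) ⊗[k] L →ₐ[k] K ⊗[k] L :=
    Algebra.TensorProduct.map (IsScalarTower.toAlgHom k (MvPolynomial ι k) K) (AlgHom.id k L)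
  -- Claim 1: images of nonzero elements are nonzerodivisors
  let ψ := Algebra.TensorProduct.cancelBaseChange k (MvPolynomial ι k) (MvPolynomial ι k) K L
  have hψ : ∀ d : (MvPolynomial ι k) ⊗[k] L, ψ (1 ⊗ₜ d) = φ d := by
    intro d
    induction d using TensorProduct.induction_on with
    | zero => simp
    | tmul a b =>
      simp only [ψ, φ, Algebra.TensorProduct.cancelBaseChange_tmul, Algebra.TensorProduct.map_tmul]
      simp [Algebra.smul_def]
    | add a b ha hb => rw [TensorProduct.tmul_add, map_add, map_add, ha, hb]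
  have hreg : ∀ d : (MvPolynomial ι k) ⊗[k] L, d ≠ 0 → ∀ z : K ⊗[k] L, φ d * z = 0 → z = 0 := by
    intro d hd z hz
    have h1 : Function.Injective (LinearMap.mulLeft (MvPolynomial ι k) d) := by
      intro a b hab
      exact mul_left_cancel₀ hd hab
    have h2 := Module.Flat.lTensor_preserves_injective_linearMap (M := K) _ h1
    obtain ⟨w, rfl⟩ := ψ.surjective z
    have h3 : ∀ w, ψ ((LinearMap.mulLeft (MvPolynomial ι k) d).lTensor K w) = φ d * ψ w := by
      intro w
      rw [← hψ, ← map_mul]
      congr 1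
      induction w using TensorProduct.induction_on with
      | zero => simp
      | tmul a b => simp
      | add a b ha hb => rw [map_add, ha, hb, mul_add]
    rw [← h3] at hz
    have h4 : (LinearMap.mulLeft (MvPolynomial ι k) d).lTensor K w = 0 := by
      apply ψ.injective
      rw [hz, map_zero]
    have h5 : w = 0 := h2 (by rw [h4, map_zero])
    rw [h5, map_zero]
  -- the domain quotient
  set Q := nilradical (K ⊗[k] L) with hQ
  letI algD : Algebra ((MvPolynomial ι k) ⊗[k] L) ((K ⊗[k] L) ⧸ Q) :=
    ((Ideal.Quotient.mk Q).comp φ.toRingHom).toAlgebra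
  have halgmap : ∀ d, algebraMap ((MvPolynomial ι k) ⊗[k] L) ((K ⊗[k] L) ⧸ Q) d =
      Ideal.Quotient.mk Q (φ d) := fun d => rfl
  have halg : ∀ w : K ⊗[k] L, IsAlgebraic ((MvPolynomial ι k) ⊗[k] L) (Ideal.Quotient.mk Q w) := by
    intro w
    induction w using TensorProduct.induction_on with
    | zero => rw [map_zero]; exact isAlgebraic_zero
    | tmul a b =>
      have h1 : a ⊗ₜ[k] b = (a ⊗ₜ[k] (1 : L)) * ((1 : K) ⊗ₜ[k] b) := by simp
      rw [h1, map_mul]
      have h2 : Ideal.Quotient.mk Q ((1 : K) ⊗ₜ[k] b) =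
          algebraMap ((MvPolynomial ι k) ⊗[k] L) ((K ⊗[k] L) ⧸ Q) (1 ⊗ₜ b) := by
        rw [halgmap]
        simp [φ]
      rw [h2]
      refine IsAlgebraic.mul ?_ (isAlgebraic_algebraMap _)
      haveI := hx.isAlgebraic
      have h3 : IsAlgebraic (Algebra.adjoin k (Set.range x)) a := Algebra.IsAlgebraic.isAlgebraic a
      refine h3.ringHom_of_comp_eq
        (f := ((Algebra.TensorProduct.includeLeft :
          MvPolynomial ι k →ₐ[k] (MvPolynomial ι k) ⊗[k] L).comp
            (hx.1.aevalEquiv.symm : Algebra.adjoin k (Set.range x) →ₐ[k] MvPolynomial ι k)).toRingHom)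
        (g := (Ideal.Quotient.mk Q).comp
          (Algebra.TensorProduct.includeLeft : K →ₐ[k] K ⊗[k] L).toRingHom) ?_ ?_
      · have h4 := Algebra.TensorProduct.includeLeft_injective (R := k) (S := k)
          (A := MvPolynomial ι k) (B := L) (algebraMap k L).injective
        exact h4.comp hx.1.aevalEquiv.symm.injective
      · ext c
        obtain ⟨q, rfl⟩ := hx.1.aevalEquiv.surjective c
        simp only [RingHom.comp_apply, AlgHom.toRingHom_eq_coe, RingHom.coe_coe, AlgHom.comp_apply,
          AlgHom.coe_coe, AlgEquiv.symm_apply_apply, Algebra.TensorProduct.includeLeft_apply,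
          halgmap, hx.1.algebraMap_aevalEquiv, φ, Algebra.TensorProduct.map_tmul]
        simp
        rfl
    | add a b ha hb => rw [map_add]; exact ha.add hb
  have hs' : Ideal.Quotient.mk Q s ≠ 0 := by
    rw [Ne, Ideal.Quotient.eq_zero_iff_mem, hQ, mem_nilradical]
    exact hs
  have h1 := Ideal.comap_ne_bot_of_algebraic_mem (I := Ideal.span {Ideal.Quotient.mk Q s})
    hs' (Ideal.mem_span_singleton_self _) (halg s)
  obtain ⟨d, hd, hd0⟩ := Submodule.exists_mem_ne_zero_of_ne_bot h1
  rw [Ideal.mem_comap, halgmap, Ideal.mem_span_singleton] at hd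
  obtain ⟨c, hc⟩ := hd
  obtain ⟨w, rfl⟩ := Ideal.Quotient.mk_surjective c
  rw [← map_mul, Ideal.Quotient.eq, hQ, mem_nilradical] at hc
  obtain ⟨n, hn⟩ := hc
  -- `(φ d - s w) ^ n = 0`, multiply by `z`
  have h5 : φ d ^ n * z = 0 := by
    have h6 : s ∣ φ d ^ n := by
      have h7 : φ d ^ n = φ d ^ n - (φ d - s * w) ^ n := by rw [hn, sub_zero]
      rw [h7]
      have h8 : φ d - (φ d - s * w) ∣ φ d ^ n - (φ d - s * w) ^ n := sub_dvd_pow_sub_pow _ _ n
      rw [sub_sub_cancel] at h8
      exact (Dvd.intro _ rfl).trans h8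
    obtain ⟨v, hv⟩ := h6
    rw [hv, mul_comm s v, mul_assoc, hsz, mul_zero]
  rw [← map_pow] at h5
  exact hreg _ (pow_ne_zero n hd0) z h5

/-- Primary extensions: every zero divisor of `K ⊗[k] F` is nilpotent when every element of `F`
separable over `k` is in `k`. -/
theorem eq_zero_of_primary {k K F : Type u} [Field k] [Field K] [Field F]
    [Algebra k K] [Algebra k F] (hF : ∀ a : F, IsSeparable k a → a ∈ (algebraMap k F).range)
    {s z : K ⊗[k] F} (hs : ¬ IsNilpotent s) (hsz : s * z = 0) : z = 0 :=
  eq_zero_of_mul_eq_zero (Groth.Agent.VarietyA.GeomIrr.isPrime_nilradical_of_sepClosed_in k F K hF) hs hsz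

end K123.PrimZ
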