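import Groth.Agent.S0563
import Groth.Agent.S0604
import Groth.Agent.S0558
import Groth.Agent.Ega4B.Codepth
import Groth.Agent.CycB.CohStalk
import Mathlib.AlgebraicGeometry.Noetherian

/-!
# Rectified depth over a regular biequidimensional scheme

* `exists_data`: Auslander-Buchsbaum numbers over a regular local ring;
* `dim_generizations`: the set of generizations of `x` has dimension `dim O_{X,x}`;
* `generizations_subset`: if `O_{X,x}` is a domain, every closed irreducible component through `x`
  contains all generizations of `x`;
* `dim_stalk_add_dim_closure`: `dim O_{X,x} + dim cl{x} = dim X` for biequidimensional `X` with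
  integral local rings.
-/

set_option autoImplicit false
set_option linter.style.haveILetI false
universe u
open CategoryTheory AlgebraicGeometry TopologicalSpace Topology

namespace K123.RectDepth

open Groth.Agent

theorem topologicalKrullDim_nonneg {T : Type*} [TopologicalSpace T] [Nonempty T] :
    0 ≤ topologicalKrullDim T := by
  obtain ⟨x⟩ := (inferInstance : Nonempty T)
  have : Nonempty (IrreducibleCloseds T) :=
    ⟨⟨closure {x}, isIrreducible_singleton.closure, isClosed_closure⟩⟩
  exact Order.krullDim_nonneg

theorem depth_eq_top_of_subsingleton {R : Type*} [CommRing R] [IsLocalRing R] (M : Type*)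
    [AddCommGroup M] [Module R M] [Subsingleton M] : LocCoh.depth R M = ⊤ := by
  unfold LocCoh.depth LocCoh.idealDepth
  rw [if_pos (Subsingleton.elim _ _)]

/-- Auslander-Buchsbaum data of a nonzero finite module over a regular local ring. -/
theorem exists_data {B : Type u} [CommRing B] [IsRegularLocalRing B] (N : Type u) [AddCommGroup N]
    [Module B N] [Module.Finite B N] [Nontrivial N] :
    ∃ e d h : ℕ, projectiveDimension (ModuleCat.of B N) = e ∧
      LocCoh.depth B N = d ∧ ringKrullDim B = h ∧ e + d = h := by
  obtain ⟨d, hd⟩ := CalgA.RegBasic.ringKrullDim_eq_natCast B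
  have hpd := S0563.result B d hd N
  obtain ⟨e, he⟩ : ∃ e : ℕ, projectiveDimension (ModuleCat.of B N) = e := by
    have h1 : projectiveDimension (ModuleCat.of B N) ≤ d :=
      (projectiveDimension_le_iff _ _).mpr hpd
    have h2 : projectiveDimension (ModuleCat.of B N) ≠ ⊥ := by
      intro h
      rw [projectiveDimension_eq_bot_iff] at h
      have := (ModuleCat.isZero_iff_subsingleton).mp h
      exact not_subsingleton N this
    lift projectiveDimension (ModuleCat.of B N) to ℕ∞ using h2 with a ha
    have ha' : a ≤ d := by exact_mod_cast h1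
    have : a ≠ ⊤ := fun h ↦ by rw [h] at ha'; exact absurd ha' (by simp)
    lift a to ℕ using this with a'
    exact ⟨a', rfl⟩
  have hAB := S0604.result B N e he
  have hdepth := Ega4B.Codepth.depth_self_eq_ringKrullDim (B := B)
  obtain ⟨t, ht⟩ := ENat.ne_top_iff_exists.mp (Ega4A.Depth.depth_ne_top (R := B) (M := N))
  have hsum : d = e + t := by
    rw [hAB, hd, ← ht] at hdepth
    exact_mod_cast hdepth.symm
  exact ⟨e, t, d, he, ht.symm, hd, hsum.symm⟩

variable {X : Scheme.{u}}

/-- The set of generizations of `x` has dimension `dim O_{X,x}`. -/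
theorem dim_generizations (x : X) :
    topologicalKrullDim ↥{t : X | t ⤳ x} = ringKrullDim (X.presheaf.stalk x) := by
  have hemb : IsEmbedding (X.fromSpecStalk x) := (X.fromSpecStalk x).isEmbedding
  have hrange : Set.range (X.fromSpecStalk x) = {t : X | t ⤳ x} := X.range_fromSpecStalk
  rw [← hrange, ← PrimeSpectrum.topologicalKrullDim_eq_ringKrullDim]
  exact (IsHomeomorph.topologicalKrullDim_eq _ hemb.toHomeomorph.isHomeomorph).symm

/-- If `O_{X,x}` is a domain then an irreducible component containing `x` contains all the
generizations of `x`. -/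
theorem generizations_subset (x : X) [IsDomain (X.presheaf.stalk x)] {C : Set X}
    (hC : C ∈ irreducibleComponents X) (hx : x ∈ C) {t : X} (ht : t ⤳ x) : t ∈ C := by
  let ζ : X := X.fromSpecStalk x (⊥ : PrimeSpectrum (X.presheaf.stalk x))
  have hζ : ∀ s : X, s ⤳ x → ζ ⤳ s := by
    intro s hs
    have : s ∈ Set.range (X.fromSpecStalk x) := by
      rw [X.range_fromSpecStalk]; exact hs
    obtain ⟨P, rfl⟩ := this
    have h1 : (⊥ : PrimeSpectrum (X.presheaf.stalk x)) ⤳ P :=
      (PrimeSpectrum.le_iff_specializes _ _).mp bot_le
    exact h1.map (X.fromSpecStalk x).continuous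
  have hCi : IsIrreducible C := hC.1
  have hCc : IsClosed C := isClosed_of_mem_irreducibleComponents C hC
  let η : X := hCi.genericPoint
  have hη : closure {η} = C := hCi.genericPoint_closure_eq.trans hCc.closure_eq
  have hηx : η ⤳ x := by
    rw [specializes_iff_mem_closure, hη]; exact hx
  have hle : C ⊆ closure {ζ} := by
    rw [← hη]
    exact (specializes_iff_closure_subset.mp (hζ η hηx))
  have heq : closure {ζ} ⊆ C := hC.2 isIrreducible_singleton.closure hle
  exact heq (specializes_iff_mem_closure.mp (hζ t ht))

theorem exists_component (x : X) : ∃ C ∈ irreducibleComponents (X : Type u), x ∈ C :=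
  ⟨irreducibleComponent x, irreducibleComponent_mem_irreducibleComponents x,
    mem_irreducibleComponent⟩

/-- `dim cl{x} + dim O_{X,x} = dim X` for a biequidimensional scheme with integral local rings. -/
theorem dim_closure_add_dim_stalk (x : X) [IsDomain (X.presheaf.stalk x)]
    (hcomp : ∀ C ∈ irreducibleComponents (X : Type u),
      topologicalKrullDim ↥C = topologicalKrullDim X)
    (hchain : ∀ (y : X) (T : Set X), IsClosed T → IsIrreducible T → y ∈ T →
      topologicalKrullDim ↥T = topologicalKrullDim ↥(closure ({y} : Set X)) +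
        topologicalKrullDim ↥{t : X | t ∈ T ∧ t ⤳ y}) :
    topologicalKrullDim ↥(closure ({x} : Set X)) + ringKrullDim (X.presheaf.stalk x) =
      topologicalKrullDim X := by
  obtain ⟨C, hC, hxC⟩ := exists_component x
  have : {t : X | t ∈ C ∧ t ⤳ x} = {t : X | t ⤳ x} := by
    ext t
    exact ⟨fun h => h.2, fun h => ⟨generizations_subset x hC hxC h, h⟩⟩
  rw [← hcomp C hC, hchain x C (isClosed_of_mem_irreducibleComponents C hC) hC.1 hxC, this,
    dim_generizations x]

/-- The main numerical identity. -/
theorem main_eq (hreg : ∀ x : X, IsRegularLocalRing ↑(X.presheaf.stalk x))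
    (hcomp : ∀ C ∈ irreducibleComponents (X : Type u),
      topologicalKrullDim ↥C = topologicalKrullDim X)
    (hchain : ∀ (y : X) (T : Set X), IsClosed T → IsIrreducible T → y ∈ T →
      topologicalKrullDim ↥T = topologicalKrullDim ↥(closure ({y} : Set X)) +
        topologicalKrullDim ↥{t : X | t ∈ T ∧ t ⤳ y})
    (F : X.Modules) (hF : Coh.IsCoh F) (x : X) (hx : x ∈ CohB1.support F) :
    ((LocCoh.depth ↑(X.presheaf.stalk x) ↑(F.presheaf.stalk x) : ℕ∞) : WithBot ℕ∞) +
        topologicalKrullDim ↥(closure ({x} : Set X)) +
        projectiveDimension (ModuleCat.of ↑(X.presheaf.stalk x) ↑(F.presheaf.stalk x)) =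
      topologicalKrullDim X := by
  have := hreg x
  have : Module.Finite (X.presheaf.stalk x) (F.presheaf.stalk x) := CycB.CohStalk.finite_stalk F hF x
  have : Nontrivial (F.presheaf.stalk x) := not_subsingleton_iff_nontrivial.mp hx
  obtain ⟨e, d, h, he, hd, hh, hsum⟩ := exists_data (B := X.presheaf.stalk x) (F.presheaf.stalk x)
  have : IsDomain (X.presheaf.stalk x) := S0558.result _
  rw [← dim_closure_add_dim_stalk x hcomp hchain, he, hd, hh, ← hsum]
  push_cast
  generalize topologicalKrullDim ↥(closure ({x} : Set X)) = c
  rw [add_comm (d : WithBot ℕ∞) c, add_assoc, add_comm (d : WithBot ℕ∞)]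

end K123.RectDepth
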