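import Mathlib.LinearAlgebra.TensorProduct.Pi
import Mathlib.LinearAlgebra.TensorProduct.Basis
import Mathlib.LinearAlgebra.TensorProduct.Tower
import Mathlib.RingTheory.Flat.Basic
import Mathlib.RingTheory.Ideal.AssociatedPrime.Basic
import Mathlib.RingTheory.FiniteType
import Mathlib.Algebra.Module.Torsion.Basic
import Groth.Agent.FlatA.GenericFree2

/-!
# Jointly injective families of linear maps and flat base change

`JLoc u`: the family `u i : M → N i` is jointly injective after every localization `A_f`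
(elementwise form).

* `joint_injective_of_free`: tensoring with a free module;
* `joint_of_free_baseChange`;
* `flat_noetherian`: flat finite type base change over a Noetherian ring.
-/

set_option autoImplicit false
set_option linter.style.haveILetI false
universe u v w x
open scoped TensorProduct

namespace K123.SepAlg

/-- Elementwise form of joint injectivity over all basic opens. -/
def JLoc {A : Type*} [CommRing A] {M : Type*} [AddCommGroup M] [Module A M] {ι : Type*}
    {N : ι → Type*} [∀ i, AddCommGroup (N i)] [∀ i, Module A (N i)] (u : ∀ i, M →ₗ[A] N i) : Prop :=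
  ∀ (f : A) (m : M), (∀ i, ∃ k : ℕ, f ^ k • u i m = 0) → ∃ k : ℕ, f ^ k • m = 0

theorem JLoc.injective {A : Type*} [CommRing A] {M : Type*} [AddCommGroup M] [Module A M]
    {ι : Type*} {N : ι → Type*} [∀ i, AddCommGroup (N i)] [∀ i, Module A (N i)]
    {u : ∀ i, M →ₗ[A] N i} (h : JLoc u) (m : M) (hm : ∀ i, u i m = 0) : m = 0 := by
  obtain ⟨k, hk⟩ := h 1 m fun i => ⟨0, by rw [hm i, smul_zero]⟩
  rwa [one_pow, one_smul] at hk

section Free

variable {R F Q : Type*} [CommRing R] [AddCommGroup F] [Module R F] [AddCommGroup Q] [Module R Q]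
  {ι : Type*} {Q' : ι → Type*} [∀ i, AddCommGroup (Q' i)] [∀ i, Module R (Q' i)]

theorem joint_injective_of_free [Module.Free R F] (v : ∀ i, Q →ₗ[R] Q' i)
    (h : ∀ q, (∀ i, v i q = 0) → q = 0) (t : F ⊗[R] Q) (ht : ∀ i, (v i).lTensor F t = 0) :
    t = 0 := by
  classical
  let ℬ := Module.Free.chooseBasis R F
  have key : ∀ i (t : F ⊗[R] Q) j, TensorProduct.equivFinsuppOfBasisLeft ℬ ((v i).lTensor F t) j =
      v i (TensorProduct.equivFinsuppOfBasisLeft ℬ t j) := by
    intro i t j
    induction t with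
    | zero => simp
    | add x y hx hy => simp only [map_add, Finsupp.add_apply, hx, hy]
    | tmul b s =>
      rw [LinearMap.lTensor_tmul, TensorProduct.equivFinsuppOfBasisLeft_apply_tmul_apply,
        TensorProduct.equivFinsuppOfBasisLeft_apply_tmul_apply, map_smul]
  apply (TensorProduct.equivFinsuppOfBasisLeft ℬ).injective
  rw [map_zero]
  ext j
  rw [Finsupp.zero_apply]
  refine h _ fun i => ?_
  rw [← key i t j, ht i, map_zero, Finsupp.zero_apply]

end Free

section BC

variable {A R B Q : Type*} [CommRing A] [CommRing R] [Algebra A R] [AddCommGroup B] [Module A B]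
  [AddCommGroup Q] [Module A Q] [Module R Q] [IsScalarTower A R Q]
  {ι : Type*} {Q' : ι → Type*} [∀ i, AddCommGroup (Q' i)] [∀ i, Module A (Q' i)]
  [∀ i, Module R (Q' i)] [∀ i, IsScalarTower A R (Q' i)]

/-- `B ⊗_A Q ≅ (R ⊗_A B) ⊗_R Q` for an `R`-module `Q`. -/
noncomputable def swapE (A R B Q : Type*) [CommRing A] [CommRing R] [Algebra A R] [AddCommGroup B]
    [Module A B] [AddCommGroup Q] [Module A Q] [Module R Q] [IsScalarTower A R Q] :
    B ⊗[A] Q ≃+ (R ⊗[A] B) ⊗[R] Q :=
  ((TensorProduct.comm A B Q).toAddEquiv.trans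
    (TensorProduct.AlgebraTensorModule.cancelBaseChange A R R Q B).symm.toAddEquiv).trans
    (TensorProduct.comm R Q (R ⊗[A] B)).toAddEquiv

theorem swapE_tmul (b : B) (q : Q) : swapE A R B Q (b ⊗ₜ q) = ((1 : R) ⊗ₜ[A] b) ⊗ₜ[R] q := by
  rfl

theorem swapE_lTensor {Q' : Type*} [AddCommGroup Q'] [Module A Q'] [Module R Q']
    [IsScalarTower A R Q'] (v : Q →ₗ[R] Q') (t : B ⊗[A] Q) :
    swapE A R B Q' ((v.restrictScalars A).lTensor B t) =
      v.lTensor (R ⊗[A] B) (swapE A R B Q t) := by
  induction t with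
  | zero => simp
  | add x y hx hy => rw [map_add, map_add, map_add, map_add, hx, hy]
  | tmul b s =>
    rw [LinearMap.lTensor_tmul, swapE_tmul, swapE_tmul, LinearMap.lTensor_tmul]
    rfl

theorem joint_of_free_baseChange [Module.Free R (R ⊗[A] B)] (v : ∀ i, Q →ₗ[R] Q' i)
    (h : ∀ q, (∀ i, v i q = 0) → q = 0) (t : B ⊗[A] Q)
    (ht : ∀ i, ((v i).restrictScalars A).lTensor B t = 0) : t = 0 := by
  apply (swapE A R B Q).injective
  rw [map_zero]
  refine joint_injective_of_free v h _ fun i => ?_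
  rw [← swapE_lTensor, ht i, map_zero]

end BC

section Flat

variable {A B M : Type*} [CommRing A] [AddCommGroup B] [Module A B] [Module.Flat A B]
  [AddCommGroup M] [Module A M]

theorem mem_range_of_torsion (I : Ideal A) (hI : I.FG) (x : B ⊗[A] M)
    (hx : ∀ a ∈ I, a • x = 0) :
    x ∈ LinearMap.range ((Submodule.torsionBySet A M (I : Set A)).subtype.lTensor B) := by
  classical
  obtain ⟨s, rfl⟩ := hI
  let φ : M →ₗ[A] (s → M) := LinearMap.pi fun j => (j : A) • LinearMap.id
  have hex : Function.Exact (Submodule.torsionBySet A M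
      ((Ideal.span (s : Set A) : Ideal A) : Set A)).subtype φ := by
    intro m
    constructor
    · intro h
      refine ⟨⟨m, ?_⟩, rfl⟩
      rw [← Submodule.torsionBySet_eq_torsionBySet_span, Submodule.mem_torsionBySet_iff]
      intro a
      exact congrFun h ⟨a.1, a.2⟩
    · rintro ⟨m, rfl⟩
      ext j
      exact (Submodule.mem_torsionBySet_iff _ _).mp m.2 ⟨j.1, Ideal.subset_span j.2⟩
  have hex2 := Module.Flat.lTensor_exact B hex
  refine (hex2 x).mp ?_
  apply (TensorProduct.piRight A A B (fun _ : s => M)).injective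
  rw [map_zero]
  have key : ∀ y : B ⊗[A] M, ∀ j : s, TensorProduct.piRight A A B (fun _ : s => M)
      (φ.lTensor B y) j = (j : A) • y := by
    intro y j
    induction y with
    | zero => simp
    | add x y hx hy => simp only [map_add, Pi.add_apply, smul_add, hx, hy]
    | tmul b m => simp [φ]
  ext j
  rw [key x j, Pi.zero_apply]
  exact hx j.1 (Ideal.subset_span j.2)

theorem pow_smul_eq_zero_of_lTensor {P P' : Type*} [AddCommGroup P] [Module A P]
    [AddCommGroup P'] [Module A P'] (ρ : P →ₗ[A] P') (f : A)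
    (hρ : ∀ m, ρ m = 0 → ∃ k : ℕ, f ^ k • m = 0) (y : B ⊗[A] P) (hy : ρ.lTensor B y = 0) :
    ∃ k : ℕ, f ^ k • y = 0 := by
  have hex : Function.Exact (LinearMap.ker ρ).subtype ρ := LinearMap.exact_subtype_ker_map ρ
  obtain ⟨z, rfl⟩ := ((Module.Flat.lTensor_exact B hex) y).mp hy
  clear hy
  induction z with
  | zero => exact ⟨0, by simp⟩
  | add a b ha hb =>
    obtain ⟨k, hk⟩ := ha
    obtain ⟨l, hl⟩ := hb
    refine ⟨k + l, ?_⟩
    rw [map_add, smul_add]
    nth_rewrite 1 [add_comm k l]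
    rw [pow_add, pow_add, mul_smul, mul_smul, hk, hl, smul_zero, smul_zero, add_zero]
  | tmul b m =>
    obtain ⟨k, hk⟩ := hρ m.1 m.2
    refine ⟨k, ?_⟩
    rw [LinearMap.lTensor_tmul, ← TensorProduct.tmul_smul, Submodule.subtype_apply, hk,
      TensorProduct.tmul_zero]

end Flat

/-- Flat base change of finite type over a Noetherian ring preserves joint injectivity. -/
theorem flat_noetherian {A B : Type u} [CommRing A] [IsNoetherianRing A] [CommRing B]
    [Algebra A B] [Algebra.FiniteType A B] [Module.Flat A B]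
    {M : Type u} [AddCommGroup M] [Module A M] {ι : Type w} {N : ι → Type x}
    [∀ i, AddCommGroup (N i)] [∀ i, Module A (N i)] (u : ∀ i, M →ₗ[A] N i) (hu : JLoc u)
    (t : B ⊗[A] M) (ht : ∀ i, (u i).lTensor B t = 0) : t = 0 := by
  by_contra ht0
  have hBn : IsNoetherianRing B := Algebra.FiniteType.isNoetherianRing A B
  have hnt : Nontrivial (Submodule.span B {t}) := by
    refine ⟨⟨⟨t, Submodule.mem_span_singleton_self t⟩, 0, fun h => ht0 ?_⟩⟩
    exact congrArg Subtype.val h
  obtain ⟨q, hq⟩ := associatedPrimes.nonempty B (Submodule.span B {t})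
  obtain ⟨hqp, x, hx⟩ := isAssociatedPrime_iff.mp hq
  have hmem : ∀ c : B, c ∈ q ↔ c • (x : B ⊗[A] M) = 0 := by
    intro c
    rw [hx, Submodule.mem_colon_singleton, Submodule.mem_bot]
    exact ⟨fun h => congrArg Subtype.val h, fun h => Subtype.ext h⟩
  obtain ⟨b, hb⟩ := Submodule.mem_span_singleton.mp x.2
  have hxu : ∀ i, (u i).lTensor B (x : B ⊗[A] M) = 0 := by
    intro i
    have h1 : (u i).baseChange B (b • t) = b • (u i).baseChange B t := map_smul _ _ _
    rw [← hb]
    change (u i).baseChange B (b • t) = 0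
    rw [h1]
    change b • (u i).lTensor B t = 0
    rw [ht i, smul_zero]
  let p : Ideal A := q.comap (algebraMap A B)
  have hp : p.IsPrime := Ideal.IsPrime.comap _
  have hxp : ∀ a ∈ p, a • (x : B ⊗[A] M) = 0 := by
    intro a ha
    rw [← algebraMap_smul B a]
    exact (hmem _).mp ha
  obtain ⟨y, hy⟩ := mem_range_of_torsion p (IsNoetherian.noetherian p) _ hxp
  -- generic freeness
  obtain ⟨fb, hfb, hfree⟩ := Groth.Agent.FlatA.GenericFree.genFree_of_finiteType (R := A ⧸ p)
    ((A ⧸ p) ⊗[A] B) ((A ⧸ p) ⊗[A] B)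
  obtain ⟨f, rfl⟩ := Ideal.Quotient.mk_surjective fb
  have hf : f ∉ p := fun h => hfb (Ideal.Quotient.eq_zero_iff_mem.mpr h)
  let R := Localization.Away (Ideal.Quotient.mk p f)
  have hfr0 : Module.Free R (R ⊗[A ⧸ p] ((A ⧸ p) ⊗[A] B)) := hfree.free_tensor R
  have hfr : Module.Free R (R ⊗[A] B) :=
    Module.Free.of_equiv (TensorProduct.AlgebraTensorModule.cancelBaseChange A (A ⧸ p) R R B)
  let P := Submodule.torsionBySet A M (p : Set A)
  let PN := fun i => Submodule.torsionBySet A (N i) (p : Set A)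
  have hmemP : ∀ m : P, ∀ a ∈ p, a • m.1 = 0 := fun m a ha =>
    (Submodule.mem_torsionBySet_iff _ _).mp m.2 ⟨a, ha⟩
  -- the maps between the torsion submodules
  let uA : ∀ i, P →ₗ[A] PN i := fun i => (u i ∘ₗ P.subtype).codRestrict (PN i) (by
    intro m
    rw [Submodule.mem_torsionBySet_iff]
    intro a
    rw [LinearMap.comp_apply, ← map_smul, Submodule.subtype_apply, hmemP m a.1 a.2, map_zero])
  let uD : ∀ i, P →ₗ[A ⧸ p] PN i := fun i =>
    { toFun := uA i
      map_add' := map_add _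
      map_smul' := by
        intro d m
        obtain ⟨a, rfl⟩ := Ideal.Quotient.mk_surjective d
        exact (uA i).map_smul a m }
  let ρ : P →ₗ[A] R ⊗[A ⧸ p] P := (TensorProduct.mk (A ⧸ p) R P 1).restrictScalars A
  let ρN : ∀ i, PN i →ₗ[A] R ⊗[A ⧸ p] PN i :=
    fun i => (TensorProduct.mk (A ⧸ p) R (PN i) 1).restrictScalars A
  let v : ∀ i, R ⊗[A ⧸ p] P →ₗ[R] R ⊗[A ⧸ p] PN i := fun i => (uD i).baseChange R
  have hloc : IsLocalizedModule (Submonoid.powers (Ideal.Quotient.mk p f))
      (TensorProduct.mk (A ⧸ p) R P 1) :=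
    (isLocalizedModule_iff_isBaseChange (Submonoid.powers (Ideal.Quotient.mk p f)) R _).mpr
      (TensorProduct.isBaseChange (A ⧸ p) P R)
  have hlocN : ∀ i, IsLocalizedModule (Submonoid.powers (Ideal.Quotient.mk p f))
      (TensorProduct.mk (A ⧸ p) R (PN i) 1) := fun i =>
    (isLocalizedModule_iff_isBaseChange (Submonoid.powers (Ideal.Quotient.mk p f)) R _).mpr
      (TensorProduct.isBaseChange (A ⧸ p) (PN i) R)
  have hρ : ∀ m, ρ m = 0 → ∃ k : ℕ, f ^ k • m = 0 := by
    intro m hm
    obtain ⟨⟨_, k, rfl⟩, hc⟩ := (IsLocalizedModule.eq_zero_iff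
      (Submonoid.powers (Ideal.Quotient.mk p f)) (TensorProduct.mk (A ⧸ p) R P 1)).mp hm
    exact ⟨k, hc⟩
  have hρN : ∀ i m, ρN i m = 0 → ∃ k : ℕ, f ^ k • m = 0 := by
    intro i m hm
    obtain ⟨⟨_, k, rfl⟩, hc⟩ := (IsLocalizedModule.eq_zero_iff
      (Submonoid.powers (Ideal.Quotient.mk p f)) (TensorProduct.mk (A ⧸ p) R (PN i) 1)).mp hm
    exact ⟨k, hc⟩
  have hv : ∀ z, (∀ i, v i z = 0) → z = 0 := by
    intro z hz
    obtain ⟨⟨m, s⟩, hs⟩ := IsLocalizedModule.surj
      (Submonoid.powers (Ideal.Quotient.mk p f)) (TensorProduct.mk (A ⧸ p) R P 1) z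
    have h1 : ∀ i, ρN i (uA i m) = 0 := by
      intro i
      have h2 : v i ((TensorProduct.mk (A ⧸ p) R P 1) m) = 0 := by
        rw [← hs]
        change v i ((s : A ⧸ p) • z) = 0
        rw [← algebraMap_smul R (s : A ⧸ p) z, map_smul, hz i, smul_zero]
      exact h2
    obtain ⟨k, hk⟩ := hu f m.1 fun i => by
      obtain ⟨k, hk⟩ := hρN i _ (h1 i)
      exact ⟨k, congrArg Subtype.val hk⟩
    have h3 : (TensorProduct.mk (A ⧸ p) R P 1) m = 0 := by
      rw [IsLocalizedModule.eq_zero_iff (Submonoid.powers (Ideal.Quotient.mk p f))]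
      exact ⟨⟨_, k, rfl⟩, Subtype.ext hk⟩
    have h4 : s • z = s • (0 : R ⊗[A ⧸ p] P) := by
      rw [smul_zero]; exact hs.trans h3
    exact (IsLocalizedModule.smul_inj (TensorProduct.mk (A ⧸ p) R P 1) s _ _).mp h4
  have hyu : ∀ i, (uA i).lTensor B y = 0 := by
    intro i
    have hinj := Module.Flat.lTensor_preserves_injective_linearMap (M := B) (PN i).subtype
      (PN i).injective_subtype
    apply hinj
    rw [map_zero, ← LinearMap.comp_apply, ← LinearMap.lTensor_comp]
    have : (PN i).subtype ∘ₗ uA i = u i ∘ₗ P.subtype := rfl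
    rw [this, LinearMap.lTensor_comp, LinearMap.comp_apply, hy]
    exact hxu i
  have hy' : ρ.lTensor B y = 0 := by
    refine joint_of_free_baseChange (R := R) v hv _ fun i => ?_
    rw [← LinearMap.comp_apply, ← LinearMap.lTensor_comp]
    have : (v i).restrictScalars A ∘ₗ ρ = ρN i ∘ₗ uA i := rfl
    rw [this, LinearMap.lTensor_comp, LinearMap.comp_apply, hyu i, map_zero]
  obtain ⟨k, hk⟩ := pow_smul_eq_zero_of_lTensor ρ f hρ y hy'
  have h5 : algebraMap A B (f ^ k) ∈ q := by
    rw [hmem, algebraMap_smul, ← hy, ← map_smul, hk, map_zero]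
  exact hf (hp.mem_of_pow_mem k h5)

end K123.SepAlg
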