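import Groth.Agent.EGA43.K123.SepAlg
import Groth.Agent.Etbase.FPModel
import Mathlib.RingTheory.Localization.BaseChange
import Mathlib.RingTheory.RingHom.FinitePresentation

/-!
# Jointly injective families of linear maps and flat base change, II

* `flat_fp`: flat base change of finite presentation (over any ring);
* `Sep u B`: the family `u` becomes `JLoc` after base change to `B`;
* `away_iff`, `sep_iff`: in terms of the localizations of `B`;
* `Sep.of_injective` (descent), `Sep.of_directed` (directed unions), `sep_baseChange_iff`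
  (transitivity), `sep_of_flat_fp`.
-/

set_option autoImplicit false
set_option linter.style.haveILetI false
universe u v w x
open scoped TensorProduct

namespace K123.SepAlg

section Joint

variable {A B B' M : Type*} [CommRing A] [AddCommGroup B] [Module A B] [AddCommGroup B']
  [Module A B'] [AddCommGroup M] [Module A M] {ι : Type*} {N : ι → Type*}
  [∀ i, AddCommGroup (N i)] [∀ i, Module A (N i)]

/-- The family `u` is jointly injective after tensoring with the `A`-module `B`. -/
def Joint (u : ∀ i, M →ₗ[A] N i) (B : Type*) [AddCommGroup B] [Module A B] : Prop :=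
  ∀ t : B ⊗[A] M, (∀ i, (u i).lTensor B t = 0) → t = 0

omit [∀ i, AddCommGroup (N i)] [∀ i, Module A (N i)] in
theorem rTensor_lTensor {N : Type*} [AddCommGroup N] [Module A N] (u : M →ₗ[A] N) (φ : B →ₗ[A] B')
    (t : B ⊗[A] M) : φ.rTensor N (u.lTensor B t) = u.lTensor B' (φ.rTensor M t) := by
  rw [← LinearMap.comp_apply, ← LinearMap.comp_apply, LinearMap.rTensor_comp_lTensor,
    LinearMap.lTensor_comp_rTensor]

theorem Joint.of_injective {u : ∀ i, M →ₗ[A] N i} (φ : B →ₗ[A] B')
    (hφ : Function.Injective (φ.rTensor M)) (h : Joint u B') : Joint u B := by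
  intro t ht
  apply hφ
  rw [map_zero]
  refine h _ fun i => ?_
  rw [← rTensor_lTensor, ht i, map_zero]

theorem Joint.of_equiv {u : ∀ i, M →ₗ[A] N i} (e : B' ≃ₗ[A] B) (h : Joint u B) : Joint u B' :=
  h.of_injective e.toLinearMap (LinearEquiv.rTensor M e).injective

end Joint

/-- Joint injectivity over a model. -/
theorem joint_of_model {A A₂ B₂ M : Type*} [CommRing A] [CommRing A₂] [Algebra A₂ A]
    [AddCommGroup B₂] [Module A₂ B₂] [AddCommGroup M] [Module A M] [Module A₂ M]
    [IsScalarTower A₂ A M] {ι : Type*} {N : ι → Type*} [∀ i, AddCommGroup (N i)]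
    [∀ i, Module A (N i)] [∀ i, Module A₂ (N i)] [∀ i, IsScalarTower A₂ A (N i)]
    (u : ∀ i, M →ₗ[A] N i) (h : Joint (fun i => (u i).restrictScalars A₂) B₂) :
    Joint u (A ⊗[A₂] B₂) := by
  intro t ht
  obtain ⟨s, rfl⟩ := (swapE A₂ A B₂ M).surjective t
  rw [h s ?_, map_zero]
  intro i
  apply (swapE A₂ A B₂ (N i)).injective
  rw [swapE_lTensor, map_zero]
  exact ht i

theorem joint_model_iff {A A₂ B₂ M : Type*} [CommRing A] [CommRing A₂] [Algebra A₂ A]
    [AddCommGroup B₂] [Module A₂ B₂] [AddCommGroup M] [Module A M] [Module A₂ M]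
    [IsScalarTower A₂ A M] {ι : Type*} {N : ι → Type*} [∀ i, AddCommGroup (N i)]
    [∀ i, Module A (N i)] [∀ i, Module A₂ (N i)] [∀ i, IsScalarTower A₂ A (N i)]
    (u : ∀ i, M →ₗ[A] N i) :
    Joint (fun i => (u i).restrictScalars A₂) B₂ ↔ Joint u (A ⊗[A₂] B₂) := by
  refine ⟨joint_of_model u, fun h t ht => ?_⟩
  apply (swapE A₂ A B₂ M).injective
  rw [map_zero]
  refine h _ fun i => ?_
  rw [← swapE_lTensor, ht i, map_zero]

/-- Flat base change of finite presentation preserves joint injectivity (over all opens). -/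
theorem flat_fp {A B : Type u} [CommRing A] [CommRing B] [Algebra A B]
    [Algebra.FinitePresentation A B] [Module.Flat A B]
    {M : Type u} [AddCommGroup M] [Module A M] {ι : Type w} {N : ι → Type x}
    [∀ i, AddCommGroup (N i)] [∀ i, Module A (N i)] (u : ∀ i, M →ₗ[A] N i) (hu : JLoc u) :
    Joint u B := by
  obtain ⟨A₂, B₂, _, _, _, _, -, hft, hfp, hfl, ⟨e⟩⟩ :=
    Groth.Agent.Etbase.FPModel.exists_model_flat A B
  have hN : IsNoetherianRing A₂ := Algebra.FiniteType.isNoetherianRing ℤ A₂
  let _ : Module A₂ M := Module.compHom M (algebraMap A₂ A)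
  let _ : ∀ i, Module A₂ (N i) := fun i => Module.compHom (N i) (algebraMap A₂ A)
  have : IsScalarTower A₂ A M := IsScalarTower.of_algebraMap_smul (fun r m => rfl)
  have : ∀ i, IsScalarTower A₂ A (N i) := fun i => IsScalarTower.of_algebraMap_smul (fun r m => rfl)
  have hu₂ : JLoc (fun i => (u i).restrictScalars A₂) := by
    intro f m h
    obtain ⟨k, hk⟩ := hu (algebraMap A₂ A f) m fun i => by
      obtain ⟨k, hk⟩ := h i
      refine ⟨k, ?_⟩
      rw [← map_pow, algebraMap_smul]
      exact hk
    refine ⟨k, ?_⟩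
    rwa [← map_pow, algebraMap_smul] at hk
  have h2 : Joint (fun i => (u i).restrictScalars A₂) B₂ := flat_noetherian _ hu₂
  exact (joint_of_model u h2).of_equiv e.symm.toLinearEquiv

section Sep

variable {A : Type*} [CommRing A] {M : Type*} [AddCommGroup M] [Module A M] {ι : Type*}
  {N : ι → Type*} [∀ i, AddCommGroup (N i)] [∀ i, Module A (N i)]

/-- The base change of the family `u` to `B` is jointly injective over all basic opens. -/
def Sep (u : ∀ i, M →ₗ[A] N i) (B : Type*) [CommRing B] [Algebra A B] : Prop :=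
  JLoc (fun i => (u i).baseChange B)

theorem sep_def {u : ∀ i, M →ₗ[A] N i} {B : Type*} [CommRing B] [Algebra A B] :
    Sep u B ↔ ∀ (f : B) (t : B ⊗[A] M), (∀ i, ∃ k : ℕ, f ^ k • (u i).baseChange B t = 0) →
      ∃ k : ℕ, f ^ k • t = 0 := Iff.rfl

/-- Joint injectivity over the localization at `f`. -/
theorem away_iff (u : ∀ i, M →ₗ[A] N i) {B C : Type*} [CommRing B] [Algebra A B] [CommRing C]
    [Algebra A C] [Algebra B C] [IsScalarTower A B C] (f : B) [IsLocalization.Away f C] :
    Joint u C ↔ ∀ t : B ⊗[A] M, (∀ i, ∃ k : ℕ, f ^ k • (u i).baseChange B t = 0) →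
      ∃ k : ℕ, f ^ k • t = 0 := by
  have hl : IsLocalizedModule (Submonoid.powers f) (Algebra.linearMap B C) := inferInstance
  let g : B ⊗[A] M →ₗ[B] C ⊗[A] M := TensorProduct.AlgebraTensorModule.rTensor A M
    (Algebra.linearMap B C)
  let gN : ∀ i, B ⊗[A] N i →ₗ[B] C ⊗[A] N i := fun i =>
    TensorProduct.AlgebraTensorModule.rTensor A (N i) (Algebra.linearMap B C)
  have hg : IsLocalizedModule (Submonoid.powers f) g :=
    IsLocalizedModule.rTensor _ (Submonoid.powers f) (Algebra.linearMap B C)
  have hgN : ∀ i, IsLocalizedModule (Submonoid.powers f) (gN i) :=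
    fun i => IsLocalizedModule.rTensor _ (Submonoid.powers f) (Algebra.linearMap B C)
  have comm : ∀ i t, gN i ((u i).baseChange B t) = (u i).lTensor C (g t) := by
    intro i t
    exact rTensor_lTensor (u i) ((Algebra.linearMap B C).restrictScalars A) t
  constructor
  · intro h t ht
    have h1 : g t = 0 := by
      refine h _ fun i => ?_
      rw [← comm, IsLocalizedModule.eq_zero_iff (Submonoid.powers f)]
      obtain ⟨k, hk⟩ := ht i
      exact ⟨⟨_, k, rfl⟩, hk⟩
    obtain ⟨⟨_, k, rfl⟩, hc⟩ := (IsLocalizedModule.eq_zero_iff (Submonoid.powers f) g).mp h1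
    exact ⟨k, hc⟩
  · intro h t ht
    obtain ⟨⟨m, s⟩, hs⟩ := IsLocalizedModule.surj (Submonoid.powers f) g t
    obtain ⟨k, hk⟩ := h m fun i => by
      have h1 : gN i ((u i).baseChange B m) = 0 := by
        rw [comm, ← hs]
        change (u i).baseChange C ((s : B) • t) = 0
        rw [← algebraMap_smul C (s : B) t, map_smul]
        change _ • (u i).lTensor C t = 0
        rw [ht i, smul_zero]
      obtain ⟨⟨_, k, rfl⟩, hc⟩ := (IsLocalizedModule.eq_zero_iff (Submonoid.powers f) (gN i)).mp h1
      exact ⟨k, hc⟩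
    have h2 : g m = 0 := by
      rw [IsLocalizedModule.eq_zero_iff (Submonoid.powers f)]
      exact ⟨⟨_, k, rfl⟩, hk⟩
    have h4 : s • t = s • (0 : C ⊗[A] M) := by
      rw [smul_zero]; exact hs.trans h2
    exact (IsLocalizedModule.smul_inj g s _ _).mp h4

theorem sep_iff (u : ∀ i, M →ₗ[A] N i) {B : Type*} [CommRing B] [Algebra A B] :
    Sep u B ↔ ∀ f : B, Joint u (Localization.Away f) :=
  forall_congr' fun f => (away_iff u f).symm

theorem Sep.joint_away {u : ∀ i, M →ₗ[A] N i} {B C : Type*} [CommRing B] [Algebra A B] [CommRing C]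
    [Algebra A C] [Algebra B C] [IsScalarTower A B C] (h : Sep u B) (f : B)
    [IsLocalization.Away f C] : Joint u C :=
  (away_iff u f).mpr (h f)

/-- Transport along linear equivalences. -/
theorem JLoc.congr {M' : Type*} [AddCommGroup M'] [Module A M'] {N' : ι → Type*}
    [∀ i, AddCommGroup (N' i)] [∀ i, Module A (N' i)] {u : ∀ i, M →ₗ[A] N i}
    {u' : ∀ i, M' →ₗ[A] N' i} (e : M ≃ₗ[A] M') (eN : ∀ i, N i ≃ₗ[A] N' i)
    (comm : ∀ i m, eN i (u i m) = u' i (e m)) (h : JLoc u) : JLoc u' := by
  intro f m hm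
  obtain ⟨m, rfl⟩ := e.surjective m
  obtain ⟨k, hk⟩ := h f m fun i => by
    obtain ⟨k, hk⟩ := hm i
    refine ⟨k, ?_⟩
    apply (eN i).injective
    rw [map_smul, comm, hk, map_zero]
  exact ⟨k, by rw [← map_smul, hk, map_zero]⟩

theorem rTensor_smul {B C : Type*} [CommRing B] [Algebra A B] [CommRing C] [Algebra A C]
    (φ : B →ₐ[A] C) {Q : Type*} [AddCommGroup Q] [Module A Q] (b : B) (t : B ⊗[A] Q) :
    φ.toLinearMap.rTensor Q (b • t) = φ b • φ.toLinearMap.rTensor Q t := by
  induction t with
  | zero => simp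
  | add x y hx hy => rw [smul_add, map_add, map_add, smul_add, hx, hy]
  | tmul c s =>
    rw [TensorProduct.smul_tmul', LinearMap.rTensor_tmul, LinearMap.rTensor_tmul,
      TensorProduct.smul_tmul', smul_eq_mul, AlgHom.toLinearMap_apply, map_mul, smul_eq_mul]
    rfl

theorem rTensor_baseChange {B C : Type*} [CommRing B] [Algebra A B] [CommRing C] [Algebra A C]
    (φ : B →ₐ[A] C) {Q Q' : Type*} [AddCommGroup Q] [Module A Q] [AddCommGroup Q'] [Module A Q']
    (u : Q →ₗ[A] Q') (t : B ⊗[A] Q) :
    φ.toLinearMap.rTensor Q' (u.baseChange B t) = u.baseChange C (φ.toLinearMap.rTensor Q t) :=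
  rTensor_lTensor u φ.toLinearMap t

/-- Descent. -/
theorem Sep.of_injective {u : ∀ i, M →ₗ[A] N i} {B C : Type*} [CommRing B] [Algebra A B]
    [CommRing C] [Algebra A C] (φ : B →ₐ[A] C) (hφ : Function.Injective (φ.toLinearMap.rTensor M))
    (h : Sep u C) : Sep u B := by
  intro f t ht
  obtain ⟨k, hk⟩ := h (φ f) (φ.toLinearMap.rTensor M t) fun i => by
    obtain ⟨k, hk⟩ := ht i
    refine ⟨k, ?_⟩
    rw [← rTensor_baseChange, ← map_pow, ← rTensor_smul, hk, map_zero]
  refine ⟨k, ?_⟩
  apply hφ
  rw [rTensor_smul, map_pow, hk, map_zero]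

theorem Sep.of_algEquiv {u : ∀ i, M →ₗ[A] N i} {B C : Type*} [CommRing B] [Algebra A B]
    [CommRing C] [Algebra A C] (e : B ≃ₐ[A] C) (h : Sep u C) : Sep u B :=
  h.of_injective e.toAlgHom (LinearEquiv.rTensor M e.toLinearEquiv).injective

/-- Passage to a "union". -/
theorem Sep.of_directed {u : ∀ i, M →ₗ[A] N i} {C : Type*} [CommRing C] [Algebra A C]
    (h : ∀ (f : C) (t : C ⊗[A] M), ∃ (B : Type w) (_ : CommRing B) (_ : Algebra A B) (φ : B →ₐ[A] C)
      (f₀ : B) (t₀ : B ⊗[A] M), φ f₀ = f ∧ φ.toLinearMap.rTensor M t₀ = t ∧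
        (∀ i, Function.Injective (φ.toLinearMap.rTensor (N i))) ∧ Sep u B) : Sep u C := by
  intro f t ht
  obtain ⟨B, _, _, φ, f₀, t₀, rfl, rfl, hinj, hB⟩ := h f t
  obtain ⟨k, hk⟩ := hB f₀ t₀ fun i => by
    obtain ⟨k, hk⟩ := ht i
    refine ⟨k, ?_⟩
    apply hinj i
    rw [rTensor_smul, map_pow, rTensor_baseChange, hk, map_zero]
  exact ⟨k, by rw [← map_pow, ← rTensor_smul, hk, map_zero]⟩

/-- Transitivity. -/
theorem sep_baseChange_iff (u : ∀ i, M →ₗ[A] N i) (B C : Type*) [CommRing B] [Algebra A B]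
    [CommRing C] [Algebra A C] [Algebra B C] [IsScalarTower A B C] :
    Sep (fun i => (u i).baseChange B) C ↔ Sep u C := by
  have comm : ∀ i m, TensorProduct.AlgebraTensorModule.cancelBaseChange A B C C (N i)
      (((u i).baseChange B).baseChange C m) = (u i).baseChange C
        (TensorProduct.AlgebraTensorModule.cancelBaseChange A B C C M m) := by
    intro i m
    exact (congrArg (fun f => f m)
      (TensorProduct.AlgebraTensorModule.lTensor_comp_cancelBaseChange (A := B) (B := C) (M := C)
        (f := u i))).symm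
  refine ⟨fun h => JLoc.congr
    (TensorProduct.AlgebraTensorModule.cancelBaseChange A B C C M)
    (fun i => TensorProduct.AlgebraTensorModule.cancelBaseChange A B C C (N i)) comm h,
    fun h => JLoc.congr
    (TensorProduct.AlgebraTensorModule.cancelBaseChange A B C C M).symm
    (fun i => (TensorProduct.AlgebraTensorModule.cancelBaseChange A B C C (N i)).symm) ?_ h⟩
  intro i m
  rw [LinearEquiv.symm_apply_eq, comm, LinearEquiv.apply_symm_apply]

theorem sep_self_iff (u : ∀ i, M →ₗ[A] N i) : Sep u A ↔ JLoc u := by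
  refine ⟨fun h => JLoc.congr (TensorProduct.lid A M) (fun i => TensorProduct.lid A (N i)) ?_ h,
    fun h => JLoc.congr (TensorProduct.lid A M).symm (fun i => (TensorProduct.lid A (N i)).symm) ?_ h⟩
  · intro i m
    induction m with
    | zero => simp
    | add x y hx hy => simp only [map_add, hx, hy]
    | tmul a m => simp
  · intro i m
    simp

end Sep

theorem sep_of_flat_fp {A B : Type u} [CommRing A] [CommRing B] [Algebra A B]
    [Algebra.FinitePresentation A B] [Module.Flat A B]
    {M : Type u} [AddCommGroup M] [Module A M] {ι : Type w} {N : ι → Type x}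
    [∀ i, AddCommGroup (N i)] [∀ i, Module A (N i)] (u : ∀ i, M →ₗ[A] N i) (hu : JLoc u) :
    Sep u B := by
  rw [sep_iff]
  intro f
  have : Algebra.FinitePresentation B (Localization.Away f) :=
    IsLocalization.Away.finitePresentation f
  have : Algebra.FinitePresentation A (Localization.Away f) :=
    Algebra.FinitePresentation.trans A B (Localization.Away f)
  have : Module.Flat B (Localization.Away f) := IsLocalization.flat _ (Submonoid.powers f)
  have : Module.Flat A (Localization.Away f) := Module.Flat.trans A B _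
  exact flat_fp u hu

end K123.SepAlg
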