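import Groth.Agent.EGA43.K123.SepAlg2

/-!
# Jointly injective families: base change over a field and fibrewise criterion
-/

set_option autoImplicit false
set_option linter.style.haveILetI false
universe u v w x
open scoped TensorProduct

namespace K123.SepAlg

section Stage

variable {R A K : Type u} [CommRing R] [CommRing A] [Algebra R A] [CommRing K] [Algebra R K]

/-- The map `A ⊗ K₀ → A ⊗ K` for a subalgebra `K₀` of `K`, as an `A`-algebra map. -/
noncomputable def stageMap (R A : Type u) {K : Type u} [CommRing R] [CommRing A] [Algebra R A]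
    [CommRing K] [Algebra R K] (K₀ : Subalgebra R K) : A ⊗[R] K₀ →ₐ[A] A ⊗[R] K :=
  Algebra.TensorProduct.map (AlgHom.id A A) K₀.val

theorem stageMap_tmul (K₀ : Subalgebra R K) (a : A) (b : K₀) :
    stageMap R A K₀ (a ⊗ₜ b) = a ⊗ₜ (b : K) := rfl

/-- Every element of `A ⊗ K` comes from a finitely generated subalgebra. -/
theorem exists_stage (f : A ⊗[R] K) : ∃ s : Finset K, ∀ K₀ : Subalgebra R K, (s : Set K) ⊆ K₀ →
    ∃ f₀ : A ⊗[R] K₀, stageMap R A K₀ f₀ = f := by
  classical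
  induction f with
  | zero => exact ⟨∅, fun K₀ _ => ⟨0, map_zero _⟩⟩
  | add x y hx hy =>
    obtain ⟨s, hs⟩ := hx
    obtain ⟨t, ht⟩ := hy
    refine ⟨s ∪ t, fun K₀ h => ?_⟩
    rw [Finset.coe_union, Set.union_subset_iff] at h
    obtain ⟨x₀, hx₀⟩ := hs K₀ h.1
    obtain ⟨y₀, hy₀⟩ := ht K₀ h.2
    exact ⟨x₀ + y₀, by rw [map_add, hx₀, hy₀]⟩
  | tmul a b =>
    refine ⟨{b}, fun K₀ h => ?_⟩
    exact ⟨a ⊗ₜ ⟨b, h (by simp)⟩, rfl⟩

variable {M : Type u} [AddCommGroup M] [Module A M]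

theorem exists_stage_mod (t : (A ⊗[R] K) ⊗[A] M) :
    ∃ s : Finset K, ∀ K₀ : Subalgebra R K, (s : Set K) ⊆ K₀ →
    ∃ t₀ : (A ⊗[R] K₀) ⊗[A] M, (stageMap R A K₀).toLinearMap.rTensor M t₀ = t := by
  classical
  induction t with
  | zero => exact ⟨∅, fun K₀ _ => ⟨0, map_zero _⟩⟩
  | add x y hx hy =>
    obtain ⟨s, hs⟩ := hx
    obtain ⟨t, ht⟩ := hy
    refine ⟨s ∪ t, fun K₀ h => ?_⟩
    rw [Finset.coe_union, Set.union_subset_iff] at h
    obtain ⟨x₀, hx₀⟩ := hs K₀ h.1
    obtain ⟨y₀, hy₀⟩ := ht K₀ h.2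
    exact ⟨x₀ + y₀, by rw [map_add, hx₀, hy₀]⟩
  | tmul f m =>
    obtain ⟨s, hs⟩ := exists_stage f
    refine ⟨s, fun K₀ h => ?_⟩
    obtain ⟨f₀, hf₀⟩ := hs K₀ h
    exact ⟨f₀ ⊗ₜ m, by rw [LinearMap.rTensor_tmul, AlgHom.toLinearMap_apply, hf₀]⟩

/-- `(A ⊗_R K) ⊗_A N ≅ N ⊗_R K`. -/
noncomputable def flipE (R A K N : Type*) [CommRing R] [CommRing A] [Algebra R A] [CommRing K]
    [Algebra R K] [AddCommGroup N] [Module A N] [Module R N] [IsScalarTower R A N] :
    (A ⊗[R] K) ⊗[A] N ≃+ N ⊗[R] K :=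
  (TensorProduct.comm A (A ⊗[R] K) N).toAddEquiv.trans
    (TensorProduct.AlgebraTensorModule.cancelBaseChange R A A N K).toAddEquiv

theorem flipE_tmul {N : Type*} [AddCommGroup N] [Module A N] [Module R N] [IsScalarTower R A N]
    (a : A) (c : K) (n : N) : flipE R A K N ((a ⊗ₜ c) ⊗ₜ n) = (a • n) ⊗ₜ c := rfl

theorem flipE_stage {N : Type*} [AddCommGroup N] [Module A N] [Module R N] [IsScalarTower R A N]
    (K₀ : Subalgebra R K) (t : (A ⊗[R] K₀) ⊗[A] N) :
    flipE R A K N ((stageMap R A K₀).toLinearMap.rTensor N t) =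
      K₀.val.toLinearMap.lTensor N (flipE R A K₀ N t) := by
  induction t with
  | zero => simp
  | add x y hx hy => simp only [map_add, hx, hy]
  | tmul f n =>
    induction f with
    | zero => simp
    | add x y hx hy => simp only [map_add, TensorProduct.add_tmul, hx, hy]
    | tmul a c => rfl

theorem stage_injective {N : Type*} [AddCommGroup N] [Module A N] [Module R N]
    [IsScalarTower R A N] [Module.Flat R N] (K₀ : Subalgebra R K) :
    Function.Injective ((stageMap R A K₀).toLinearMap.rTensor N) := by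
  intro x y hxy
  apply (flipE R A K₀ N).injective
  apply Module.Flat.lTensor_preserves_injective_linearMap (M := N) K₀.val.toLinearMap
    Subtype.val_injective
  rw [← flipE_stage, ← flipE_stage, hxy]

/-- Reduction to algebras of finite type. -/
theorem sep_of_fg {ι : Type u} {N : ι → Type u} [∀ i, AddCommGroup (N i)] [∀ i, Module A (N i)]
    [∀ i, Module R (N i)] [∀ i, IsScalarTower R A (N i)] [∀ i, Module.Flat R (N i)]
    (u : ∀ i, M →ₗ[A] N i) (h : ∀ K₀ : Subalgebra R K, K₀.FG → Sep u (A ⊗[R] K₀)) :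
    Sep u (A ⊗[R] K) := by
  classical
  refine Sep.of_directed fun f t => ?_
  obtain ⟨s, hs⟩ := exists_stage f
  obtain ⟨s', hs'⟩ := exists_stage_mod t
  let K₀ : Subalgebra R K := Algebra.adjoin R ((s ∪ s' : Finset K) : Set K)
  have h1 : ((s ∪ s' : Finset K) : Set K) ⊆ K₀ := Algebra.subset_adjoin
  rw [Finset.coe_union, Set.union_subset_iff] at h1
  obtain ⟨f₀, hf₀⟩ := hs K₀ h1.1
  obtain ⟨t₀, ht₀⟩ := hs' K₀ h1.2
  exact ⟨A ⊗[R] K₀, inferInstance, inferInstance, stageMap R A K₀, f₀, t₀, hf₀, ht₀,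
    fun i => stage_injective K₀, h K₀ ⟨_, rfl⟩⟩

end Stage

/-- Base change over a field. -/
theorem sep_field {k A : Type u} [Field k] [CommRing A] [Algebra k A] {M : Type u} [AddCommGroup M]
    [Module A M] {ι : Type u} {N : ι → Type u} [∀ i, AddCommGroup (N i)] [∀ i, Module A (N i)]
    (u : ∀ i, M →ₗ[A] N i) (hu : JLoc u) (K : Type u) [CommRing K] [Algebra k K] :
    Sep u (A ⊗[k] K) := by
  let _ : ∀ i, Module k (N i) := fun i => Module.compHom (N i) (algebraMap k A)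
  have : ∀ i, IsScalarTower k A (N i) := fun i => IsScalarTower.of_algebraMap_smul (fun r m => rfl)
  refine sep_of_fg u fun K₀ hK₀ => ?_
  have : Algebra.FiniteType k K₀ := (Subalgebra.fg_iff_finiteType K₀).mp hK₀
  have : Algebra.FinitePresentation k K₀ := Algebra.FinitePresentation.of_finiteType.mp this
  exact sep_of_flat_fp u hu

end K123.SepAlg
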