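import Groth.Agent.EGA43.K130.SepBasic
import Mathlib.AlgebraicGeometry.Morphisms.Flat
import Mathlib.RingTheory.TensorProduct.Quotient

/-!
# Descent of separating families along faithfully flat morphisms
-/

set_option autoImplicit false
set_option linter.style.haveILetI false
universe u
open CategoryTheory CategoryTheory.Limits AlgebraicGeometry Opposite TopologicalSpace
open scoped TensorProduct

namespace K123.SepDesc

open K130.SepBasic Groth.Agent

/-- The annihilator of an element, as an ideal. -/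
def annI {A M : Type*} [CommRing A] [AddCommGroup M] [Module A M] (m : M) : Ideal A :=
  LinearMap.ker (LinearMap.toSpanSingleton A M m)

theorem mem_annI {A M : Type*} [CommRing A] [AddCommGroup M] [Module A M] (m : M) (a : A) :
    a ∈ annI m ↔ a • m = 0 := by
  rw [annI, LinearMap.mem_ker, LinearMap.toSpanSingleton_apply]

/-- If `B` is flat over `A` and `1 ⊗ m = 0` in `B ⊗ M` then the annihilator of `m` generates the
unit ideal of `B`. -/
theorem map_ann_eq_top {A B M : Type*} [CommRing A] [CommRing B] [Algebra A B] [Module.Flat A B]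
    [AddCommGroup M] [Module A M] (m : M) (hm : (1 : B) ⊗ₜ[A] m = 0) :
    (annI m : Ideal A).map (algebraMap A B) = ⊤ := by
  let I : Ideal A := annI m
  let φ : (A ⧸ I) →ₗ[A] M := Submodule.liftQ I (LinearMap.toSpanSingleton A M m) le_rfl
  have hφ : Function.Injective φ := by
    rw [← LinearMap.ker_eq_bot]
    exact Submodule.ker_liftQ_eq_bot _ _ _ le_rfl
  have h1 : Function.Injective (φ.lTensor B) :=
    Module.Flat.lTensor_preserves_injective_linearMap φ hφ
  have h2 : (1 : B) ⊗ₜ[A] (1 : A ⧸ I) = 0 := by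
    apply h1
    rw [map_zero, LinearMap.lTensor_tmul]
    have : φ 1 = m := by
      change Submodule.liftQ I (LinearMap.toSpanSingleton A M m) le_rfl (Submodule.Quotient.mk 1) = m
      rw [Submodule.liftQ_apply, LinearMap.toSpanSingleton_apply, one_smul]
    rw [this, hm]
  have h3 : (Algebra.TensorProduct.quotIdealMapEquivTensorQuot B I) (Ideal.Quotient.mk _ 1) = 0 := by
    exact h2
  have h4 := (map_eq_zero_iff _ (Algebra.TensorProduct.quotIdealMapEquivTensorQuot B I).injective).mp h3
  rw [Ideal.Quotient.eq_zero_iff_mem] at h4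
  exact (Ideal.eq_top_iff_one _).mpr h4

variable {X Y : Scheme.{u}}

open VarietyB.PullSec in
/-- A section over an affine open whose pullbacks along a faithfully flat morphism vanish is zero. -/
theorem eq_zero_of_sec_eq_zero (g : Y ⟶ X) [Flat g] [Surjective g] {F : X.Modules}
    (hF : Coh.IsQCoh F) {U : X.Opens} (hU : IsAffineOpen U) (m : Γ(F, U))
    (h : ∀ (V : Y.Opens) (_ : IsAffineOpen V) (e : V ≤ g ⁻¹ᵁ U), sec g F e m = 0) : m = 0 := by
  by_contra hm
  have hI : (annI m : Ideal Γ(X, U)) ≠ ⊤ := by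
    intro htop
    apply hm
    have : (1 : Γ(X, U)) ∈ (annI m : Ideal Γ(X, U)) := htop ▸ trivial
    rwa [mem_annI, one_smul] at this
  obtain ⟨P, hP, hIP⟩ := Ideal.exists_le_maximal _ hI
  let x : X := hU.fromSpec ⟨P, hP.isPrime⟩
  have hxU : x ∈ U := by
    have := hU.range_fromSpec
    exact this.subset ⟨_, rfl⟩
  obtain ⟨y, hy⟩ := g.surjective x
  obtain ⟨V, hV, hyV, hle⟩ := exists_isAffineOpen_mem_and_subset (X := Y) (x := y)
      (U := g ⁻¹ᵁ U) (by change g y ∈ U; rw [hy]; exact hxU)
  let _ : Algebra Γ(X, U) Γ(Y, V) := (g.appLE U V hle).hom.toAlgebra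
  have : Module.Flat Γ(X, U) Γ(Y, V) := g.flat_appLE hU hV hle
  let j2 := secModule g F hle
  have j3 : IsScalarTower Γ(X, U) Γ(Y, V) Γ((Scheme.Modules.pullback g).obj F, V) :=
    ⟨fun a b c => by rw [Algebra.smul_def, mul_smul]; rfl⟩
  have hbc := isBaseChange_secₗ g F hle hF hU hV
  have h1 : (1 : Γ(Y, V)) ⊗ₜ[Γ(X, U)] m = 0 := by
    apply hbc.equiv.injective
    rw [hbc.equiv_tmul, map_zero, one_smul]
    exact h V hV hle
  have h2 := map_ann_eq_top m h1
  have h3 : (annI m : Ideal Γ(X, U)).map (algebraMap Γ(X, U) Γ(Y, V)) ≤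
      (hV.primeIdealOf ⟨y, hyV⟩).asIdeal := by
    rw [Ideal.map_le_iff_le_comap]
    have h4 := congrArg PrimeSpectrum.asIdeal
      (IsAffineOpen.comap_primeIdealOf_appLE U hU V hV hle hyV)
    have h5 : (hU.primeIdealOf ⟨g y, hle hyV⟩) = ⟨P, hP.isPrime⟩ := by
      have h6 : hU.fromSpec (hU.primeIdealOf ⟨g y, hle hyV⟩) = hU.fromSpec ⟨P, hP.isPrime⟩ := by
        rw [hU.fromSpec_primeIdealOf]
        exact hy
      exact hU.fromSpec.isOpenEmbedding.injective h6
    rw [h5] at h4
    refine hIP.trans (le_of_eq ?_)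
    exact h4.symm
  rw [h2] at h3
  exact (hV.primeIdealOf ⟨y, hyV⟩).2.ne_top (top_le_iff.mp h3)

open VarietyB.PullSec in
/-- Separating families descend along faithfully flat morphisms. -/
theorem secInj_of_pullback (g : Y ⟶ X) [Flat g] [Surjective g] {F : X.Modules}
    (hF : Coh.IsQCoh F) {ι : Type u} {G : ι → X.Modules} (u : ∀ i, F ⟶ G i)
    (h : ∀ V : Y.Opens, SecInj (fun i => (Scheme.Modules.pullback g).map (u i)) V) (V : X.Opens) :
    SecInj u V := by
  refine secInj_of_basis u {V | IsAffineOpen V} ?_ ?_ V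
  · intro V x hx
    obtain ⟨W, hW, hxW, hle⟩ := exists_isAffineOpen_mem_and_subset (X := X) (x := x) (U := V) hx
    exact ⟨W, hW, hxW, hle⟩
  · intro U hU m hm
    refine eq_zero_of_sec_eq_zero g hF hU m fun V hV e => h V _ fun i => ?_
    have h1 := app_sec g e (u i) m
    refine h1.trans ?_
    have h2 : (u i).app U m = 0 := hm i
    rw [h2, map_zero]

end K123.SepDesc
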