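import Groth.Agent.EGA43.K123.SepAlg3
import Groth.Agent.EGA43.K123.SepDesc
import Mathlib.RingTheory.Filtration
import Mathlib.RingTheory.LocalRing.ResidueField.Ideal
import Mathlib.LinearAlgebra.DirectSum.Finsupp

/-!
# Jointly injective families: the fibrewise criterion over a Noetherian algebra
-/

set_option autoImplicit false
set_option linter.style.haveILetI false
universe u v w x
open scoped TensorProduct

namespace K123.SepAlg

open K123.SepDesc

/-- The kernel of `Z → κ(p) ⊗ Z`. -/
theorem exists_smul_mem_of_tmul_eq_zero {R : Type*} [CommRing R] (p : Ideal R) [p.IsPrime]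
    {Z : Type*} [AddCommGroup Z] [Module R Z] (z : Z) (hz : (1 : p.ResidueField) ⊗ₜ[R] z = 0) :
    ∃ s ∉ p, s • z ∈ p • (⊤ : Submodule R Z) := by
  have h1 : (1 : p.ResidueField) ⊗ₜ[R ⧸ p] ((1 : R ⧸ p) ⊗ₜ[R] z) = 0 := by
    apply (TensorProduct.AlgebraTensorModule.cancelBaseChange R (R ⧸ p) p.ResidueField
      p.ResidueField Z).injective
    rw [TensorProduct.AlgebraTensorModule.cancelBaseChange_tmul, one_smul, hz, map_zero]
  have hfl : Module.Flat (R ⧸ p) p.ResidueField := IsLocalization.flat _ (nonZeroDivisors (R ⧸ p))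
  have h2 := map_ann_eq_top _ h1
  have h3 : (annI ((1 : R ⧸ p) ⊗ₜ[R] z) : Ideal (R ⧸ p)) ≠ ⊥ := by
    intro h
    rw [h, Ideal.map_bot] at h2
    exact bot_ne_top h2
  obtain ⟨d, hd, hd0⟩ := Submodule.exists_mem_ne_zero_of_ne_bot h3
  obtain ⟨s, rfl⟩ := Ideal.Quotient.mk_surjective d
  refine ⟨s, fun h => hd0 (Ideal.Quotient.eq_zero_iff_mem.mpr h), ?_⟩
  have h4 : (1 : R ⧸ p) ⊗ₜ[R] (s • z) = 0 := by
    have h6 := (mem_annI _ _).mp hd
    have h7 : (Ideal.Quotient.mk p s) • ((1 : R ⧸ p) ⊗ₜ[R] z) = s • ((1 : R ⧸ p) ⊗ₜ[R] z) :=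
      algebraMap_smul (R ⧸ p) s _
    rw [h7] at h6
    rw [TensorProduct.tmul_smul, h6]
  have h5 := congrArg (TensorProduct.quotTensorEquivQuotSMul Z p) h4
  rw [TensorProduct.quotTensorEquivQuotSMul_mk_one_tmul, map_zero, Submodule.Quotient.mk_eq_zero] at h5
  exact h5

section Vec

variable {R A : Type u} [CommRing R] [CommRing A] [Algebra R A] {M : Type u} [AddCommGroup M]
  [Module A M] [Module R M] [IsScalarTower R A M] {ι : Type u} {N : ι → Type u}
  [∀ i, AddCommGroup (N i)] [∀ i, Module A (N i)] [∀ i, Module R (N i)]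
  [∀ i, IsScalarTower R A (N i)] {K : Type u} [CommRing K] [Algebra R K]

theorem flipE_smul (f : A) (t : (A ⊗[R] K) ⊗[A] M) :
    flipE R A K M ((algebraMap A (A ⊗[R] K) f) • t) = f • flipE R A K M t := by
  rw [algebraMap_smul]
  induction t with
  | zero => simp
  | add x y hx hy => simp only [map_add, smul_add, hx, hy]
  | tmul g n =>
    induction g with
    | zero => simp
    | add x y hx hy => simp only [map_add, TensorProduct.add_tmul, hx, hy, smul_add]
    | tmul a c =>
      rw [TensorProduct.smul_tmul', TensorProduct.smul_tmul', flipE_tmul, flipE_tmul,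
        TensorProduct.smul_tmul', smul_eq_mul, mul_smul]

theorem flipE_baseChange {N : Type u} [AddCommGroup N] [Module A N] [Module R N]
    [IsScalarTower R A N] (u : M →ₗ[A] N) (t : (A ⊗[R] K) ⊗[A] M) :
    flipE R A K N (u.baseChange _ t) =
      TensorProduct.AlgebraTensorModule.rTensor R K u (flipE R A K M t) := by
  induction t with
  | zero => simp
  | add x y hx hy => simp only [map_add, hx, hy]
  | tmul g n =>
    induction g with
    | zero => simp
    | add x y hx hy => simp only [map_add, TensorProduct.add_tmul, hx, hy]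
    | tmul a c =>
      rw [LinearMap.baseChange_tmul, flipE_tmul, flipE_tmul,
        TensorProduct.AlgebraTensorModule.rTensor_tmul, map_smul]

/-- `Sep u (A ⊗ K)` in terms of `M ⊗ K`. -/
theorem Sep.flip {u : ∀ i, M →ₗ[A] N i} (h : Sep u (A ⊗[R] K)) (f : A) (y : M ⊗[R] K)
    (hy : ∀ i, ∃ k : ℕ, f ^ k • TensorProduct.AlgebraTensorModule.rTensor R K (u i) y = 0) :
    ∃ k : ℕ, f ^ k • y = 0 := by
  obtain ⟨t, rfl⟩ := (flipE R A K M).surjective y
  obtain ⟨k, hk⟩ := h (algebraMap A _ f) t fun i => by
    obtain ⟨k, hk⟩ := hy i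
    refine ⟨k, ?_⟩
    apply (flipE R A K (N i)).injective
    rw [← map_pow, flipE_smul, flipE_baseChange, hk, map_zero]
  refine ⟨k, ?_⟩
  rw [← flipE_smul, map_pow, hk, map_zero]

end Vec

section Vec2

variable {R A : Type u} [CommRing R] [CommRing A] [Algebra R A] {M : Type u} [AddCommGroup M]
  [Module A M] [Module R M] [IsScalarTower R A M] {ι : Type u} {N : ι → Type u}
  [∀ i, AddCommGroup (N i)] [∀ i, Module A (N i)] [∀ i, Module R (N i)]
  [∀ i, IsScalarTower R A (N i)] {K : Type u} [Field K] [Algebra R K]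

/-- The same with a `K`-vector space in place of `K`. -/
theorem Sep.vec {u : ∀ i, M →ₗ[A] N i} (h : Sep u (A ⊗[R] K)) (W : Type u) [AddCommGroup W]
    [Module K W] [Module R W] [IsScalarTower R K W] (f : A) (y : M ⊗[R] W)
    (hy : ∀ i, ∃ k : ℕ, f ^ k • TensorProduct.AlgebraTensorModule.rTensor R W (u i) y = 0) :
    ∃ k : ℕ, f ^ k • y = 0 := by
  classical
  let b := Module.Free.chooseBasis K W
  let e : W ≃ₗ[R] (Module.Free.ChooseBasisIndex K W →₀ K) := b.repr.restrictScalars R
  let E : M ⊗[R] W ≃ₗ[A] (Module.Free.ChooseBasisIndex K W →₀ M ⊗[R] K) :=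
    (TensorProduct.AlgebraTensorModule.congr (LinearEquiv.refl A M) e).trans
      (TensorProduct.finsuppRight R A M K _)
  have hE : ∀ y j, E y j = TensorProduct.AlgebraTensorModule.lTensor A M
      ((Finsupp.lapply (R := R) j) ∘ₗ e.toLinearMap) y := by
    intro y j
    induction y with
    | zero => simp
    | add x y hx hy => simp only [map_add, Finsupp.add_apply, hx, hy]
    | tmul m w => simp [E]
  have key : ∀ j, ∃ k : ℕ, f ^ k • E y j = 0 := by
    intro j
    refine h.flip f _ fun i => ?_
    obtain ⟨k, hk⟩ := hy i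
    refine ⟨k, ?_⟩
    rw [hE]
    have comm : ∀ y, TensorProduct.AlgebraTensorModule.rTensor R K (u i)
        (TensorProduct.AlgebraTensorModule.lTensor A M
          ((Finsupp.lapply (R := R) j) ∘ₗ e.toLinearMap) y) =
        TensorProduct.AlgebraTensorModule.lTensor A (N i)
          ((Finsupp.lapply (R := R) j) ∘ₗ e.toLinearMap)
          (TensorProduct.AlgebraTensorModule.rTensor R W (u i) y) := by
      intro y
      induction y with
      | zero => simp
      | add x y hx hy => simp only [map_add, hx, hy]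
      | tmul m w => simp
    rw [comm, ← map_smul, hk, map_zero]
  choose k hk using key
  refine ⟨∑ j ∈ (E y).support, k j, ?_⟩
  apply E.injective
  rw [map_smul, map_zero]
  ext j
  rw [Finsupp.smul_apply, Finsupp.zero_apply]
  by_cases hj : j ∈ (E y).support
  · rw [← Finset.sum_erase_add _ _ hj, pow_add, mul_smul, hk j, smul_zero]
  · rw [Finsupp.notMem_support_iff.mp hj, smul_zero]

end Vec2

section Main

variable {R A : Type u} [CommRing R] [CommRing A] [Algebra R A] [IsNoetherianRing A]
  {M : Type u} [AddCommGroup M]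
  [Module A M] [Module R M] [IsScalarTower R A M] [Module.Finite A M]
  {ι : Type u} {N : ι → Type u}
  [∀ i, AddCommGroup (N i)] [∀ i, Module A (N i)] [∀ i, Module R (N i)]
  [∀ i, IsScalarTower R A (N i)] [∀ i, Module.Flat R (N i)]

/-- multiplication `M ⊗ J → M` -/
noncomputable def mulE (R A M : Type u) [CommRing R] [CommRing A] [Algebra R A] [AddCommGroup M]
    [Module A M] [Module R M] [IsScalarTower R A M] (J : Ideal R) : M ⊗[R] J →ₗ[A] M :=
  (TensorProduct.AlgebraTensorModule.rid R A M).toLinearMap ∘ₗ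
    TensorProduct.AlgebraTensorModule.lTensor A M J.subtype

omit [IsNoetherianRing A] [Module.Finite A M] in
theorem mulE_tmul (J : Ideal R) (m : M) (j : J) : mulE R A M J (m ⊗ₜ j) = (j : R) • m := by
  simp [mulE]

omit [IsNoetherianRing A] [Module.Finite A M] in
theorem mulE_mem (J : Ideal R) (z : M ⊗[R] J) : mulE R A M J z ∈ J • (⊤ : Submodule R M) := by
  induction z with
  | zero => simp
  | add x y hx hy => rw [map_add]; exact Submodule.add_mem _ hx hy
  | tmul m j => rw [mulE_tmul]; exact Submodule.smul_mem_smul j.2 trivial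

omit [IsNoetherianRing A] [Module.Finite A M] in
theorem exists_mulE (J : Ideal R) (m : M) (hm : m ∈ J • (⊤ : Submodule R M)) :
    ∃ z, mulE R A M J z = m := by
  induction hm using Submodule.smul_induction_on' with
  | smul r hr n _ => exact ⟨n ⊗ₜ ⟨r, hr⟩, mulE_tmul _ _ _⟩
  | add x _ y _ hx hy =>
    obtain ⟨z, hz⟩ := hx
    obtain ⟨w, hw⟩ := hy
    exact ⟨z + w, by rw [map_add, hz, hw]⟩

omit [IsNoetherianRing A] in
theorem mulE_injective {N : Type u} [AddCommGroup N] [Module A N] [Module R N]
    [IsScalarTower R A N] [Module.Flat R N] (J : Ideal R) :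
    Function.Injective (mulE R A N J) := by
  have h := Module.Flat.lTensor_preserves_injective_linearMap (M := N) J.subtype
    J.injective_subtype
  intro x y hxy
  exact h ((TensorProduct.rid R N).injective hxy)

omit [IsNoetherianRing A] [Module.Finite A M] in
theorem mulE_natural {N : Type u} [AddCommGroup N] [Module A N] [Module R N]
    [IsScalarTower R A N] (J : Ideal R) (u : M →ₗ[A] N) (z : M ⊗[R] J) :
    mulE R A N J (TensorProduct.AlgebraTensorModule.rTensor R J u z) = u (mulE R A M J z) := by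
  induction z with
  | zero => simp
  | add x y hx hy => simp only [map_add, hx, hy]
  | tmul m j =>
    rw [TensorProduct.AlgebraTensorModule.rTensor_tmul, mulE_tmul, mulE_tmul,
      LinearMap.map_smul_of_tower]

omit [IsNoetherianRing A] [Module.Finite A M] in
/-- Induction step. -/
theorem step (u : ∀ i, M →ₗ[A] N i) (p : Ideal R) [p.IsPrime] (h : Sep u (A ⊗[R] p.ResidueField))
    (J : Ideal R) (f : A) (t : M) (ht : t ∈ J • (⊤ : Submodule R M))
    (hu : ∀ i, ∃ k : ℕ, f ^ k • u i t = 0) :
    ∃ (s : R) (k : ℕ), s ∉ p ∧ s • f ^ k • t ∈ (p * J) • (⊤ : Submodule R M) := by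
  obtain ⟨z, rfl⟩ := exists_mulE (A := A) J t ht
  let W := p.ResidueField ⊗[R] J
  let q : J →ₗ[R] W := TensorProduct.mk R p.ResidueField J 1
  let y : M ⊗[R] W := TensorProduct.AlgebraTensorModule.lTensor A M q z
  obtain ⟨k, hk⟩ := h.vec W f y fun i => by
    obtain ⟨k, hk⟩ := hu i
    refine ⟨k, ?_⟩
    have h1 : f ^ k • TensorProduct.AlgebraTensorModule.rTensor R J (u i) z = 0 := by
      apply mulE_injective (A := A) J
      rw [map_smul, mulE_natural, hk, map_zero]
    have comm : ∀ z, TensorProduct.AlgebraTensorModule.rTensor R W (u i)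
        (TensorProduct.AlgebraTensorModule.lTensor A M q z) =
        TensorProduct.AlgebraTensorModule.lTensor A (N i) q
          (TensorProduct.AlgebraTensorModule.rTensor R J (u i) z) := by
      intro z
      induction z with
      | zero => simp
      | add x y hx hy => simp only [map_add, hx, hy]
      | tmul m w => simp
    rw [comm, ← map_smul, h1, map_zero]
  have h2 : (1 : p.ResidueField) ⊗ₜ[R] (f ^ k • z) = 0 := by
    apply (TensorProduct.leftComm R p.ResidueField M J).injective
    rw [map_zero]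
    have h3 : ∀ z : M ⊗[R] J, TensorProduct.leftComm R p.ResidueField M J (1 ⊗ₜ[R] z) =
        TensorProduct.AlgebraTensorModule.lTensor A M q z := by
      intro z
      induction z with
      | zero => simp
      | add x y hx hy => simp only [map_add, TensorProduct.tmul_add, hx, hy]
      | tmul m w => rfl
    rw [h3, map_smul]
    exact hk
  obtain ⟨s, hs, hs'⟩ := exists_smul_mem_of_tmul_eq_zero p _ h2
  refine ⟨s, k, hs, ?_⟩
  have h4 : mulE R A M J (s • f ^ k • z) = s • f ^ k • mulE R A M J z := by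
    rw [LinearMap.map_smul_of_tower, map_smul]
  rw [← h4]
  generalize s • f ^ k • z = z' at hs'
  induction hs' using Submodule.smul_induction_on' with
  | smul r hr n _ =>
    rw [LinearMap.map_smul_of_tower, Submodule.mul_smul]
    exact Submodule.smul_mem_smul hr (mulE_mem J n)
  | add x _ y _ hx hy => rw [map_add]; exact Submodule.add_mem _ hx hy

/-- The fibrewise criterion. -/
theorem jLoc_of_fibres (u : ∀ i, M →ₗ[A] N i)
    (H : ∀ (p : Ideal R) [p.IsPrime], Sep u (A ⊗[R] p.ResidueField)) : JLoc u := by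
  intro f m hm
  by_contra hcon
  push Not at hcon
  let S : Set (Ideal A) := {I | ∃ a : A, (∀ k : ℕ, f ^ k • (a • m) ≠ 0) ∧ I = annI (a • m)}
  have hS : S.Nonempty := ⟨annI ((1 : A) • m), 1, fun k => by rw [one_smul]; exact hcon k, rfl⟩
  obtain ⟨q, ⟨a, ha, hq⟩, hmax⟩ : ∃ q : Ideal A, q ∈ S ∧ ∀ I ∈ S, ¬ q < I :=
    set_has_maximal_iff_noetherian.mpr (inferInstance : IsNoetherian A A) S hS
  set t := a • m with ht
  have hmem : ∀ x : A, x ∈ q ↔ x • t = 0 := fun x => by rw [hq, mem_annI]
  have hmax' : ∀ b : A, (∀ k : ℕ, f ^ k • b • t ≠ 0) → ∀ x : A, x • b • t = 0 → x ∈ q := by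
    intro b hb x hx
    have h1 : (annI (b • t) : Ideal A) ∈ S := by
      refine ⟨b * a, fun k => ?_, ?_⟩
      · rw [mul_smul]; exact hb k
      · rw [mul_smul]
    have h2 : q ≤ annI (b • t) := by
      intro y hy
      rw [mem_annI, smul_comm, (hmem y).mp hy, smul_zero]
    by_contra hxq
    have h3 : q < annI (b • t) := by
      refine lt_of_le_of_ne h2 fun h => hxq ?_
      rw [h, mem_annI]
      exact hx
    exact hmax _ h1 h3
  have hfq : ∀ k : ℕ, f ^ k ∉ q := fun k h => ha k ((hmem _).mp h)
  have hprime : q.IsPrime := by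
    refine ⟨fun h => ?_, fun {x y} hxy => ?_⟩
    · apply hfq 0
      rw [h]; trivial
    · by_contra hcon2
      push Not at hcon2
      obtain ⟨hx, hy⟩ := hcon2
      apply hx
      refine hmax' y (fun k hk => ?_) x ?_
      · apply hy
        refine hmax' (f ^ k) (fun l => ?_) y ?_
        · rw [← mul_smul, ← pow_add]; exact ha _
        · rw [smul_comm]; exact hk
      · rw [← mul_smul]; exact (hmem _).mp hxy
  let p : Ideal R := q.comap (algebraMap R A)
  have hp : p.IsPrime := Ideal.IsPrime.comap _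
  have htu : ∀ c : A, ∀ i, ∃ k : ℕ, f ^ k • u i (c • t) = 0 := by
    intro c i
    obtain ⟨k, hk⟩ := hm i
    refine ⟨k, ?_⟩
    rw [map_smul, ht, map_smul, smul_comm, smul_comm (f ^ k), hk, smul_zero, smul_zero]
  -- the main claim
  have claim : ∀ n : ℕ, ∃ c ∉ q, c • t ∈ (p ^ n) • (⊤ : Submodule R M) := by
    intro n
    induction n with
    | zero =>
      refine ⟨1, ?_, ?_⟩
      · have := hfq 0; rwa [pow_zero] at this
      · rw [pow_zero, Ideal.one_eq_top, Submodule.top_smul]; trivial
    | succ n ih =>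
      obtain ⟨c, hc, hct⟩ := ih
      obtain ⟨s, k, hs, hsk⟩ := step u p (H p) (p ^ n) f (c • t) hct (htu c)
      refine ⟨algebraMap R A s * (f ^ k * c), fun h => ?_, ?_⟩
      · rcases hprime.mem_or_mem h with h | h
        · exact hs h
        · rcases hprime.mem_or_mem h with h | h
          · exact hfq k h
          · exact hc h
      · rw [mul_smul, mul_smul, algebraMap_smul, pow_succ']
        exact hsk
  -- Krull intersection in the localization at `q`
  let Aq := Localization.AtPrime q
  let Mq := LocalizedModule q.primeCompl M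
  let I : Ideal A := p.map (algebraMap R A)
  have hIq : I ≤ q := Ideal.map_le_iff_le_comap.mpr le_rfl
  have hI : I.map (algebraMap A Aq) ≠ ⊤ := by
    refine ne_top_of_le_ne_top (IsLocalRing.maximalIdeal.isMaximal Aq).ne_top ?_
    rw [← Localization.AtPrime.map_eq_maximalIdeal]
    exact Ideal.map_mono hIq
  have hkr := Ideal.iInf_pow_smul_eq_bot_of_isLocalRing (M := Mq) _ hI
  have hz : (LocalizedModule.mkLinearMap q.primeCompl M) t ∈
      ⨅ i : ℕ, (I.map (algebraMap A Aq)) ^ i • (⊤ : Submodule Aq Mq) := by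
    rw [Submodule.mem_iInf]
    intro n
    obtain ⟨c, hc, hct⟩ := claim n
    have h1 : ∀ y ∈ (p ^ n) • (⊤ : Submodule R M), (LocalizedModule.mkLinearMap q.primeCompl M) y ∈
        (I.map (algebraMap A Aq)) ^ n • (⊤ : Submodule Aq Mq) := by
      intro y hy
      induction hy using Submodule.smul_induction_on' with
      | smul r hr m _ =>
        rw [← algebraMap_smul A r m, map_smul, ← algebraMap_smul Aq]
        refine Submodule.smul_mem_smul ?_ trivial
        rw [← Ideal.map_pow, ← Ideal.map_pow]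
        exact Ideal.mem_map_of_mem _ (Ideal.mem_map_of_mem _ hr)
      | add x _ y _ hx hy => rw [map_add]; exact Submodule.add_mem _ hx hy
    have h2 := h1 _ hct
    rw [map_smul, ← algebraMap_smul Aq c] at h2
    have hu : IsUnit (algebraMap A Aq c) := IsLocalization.map_units Aq (⟨c, hc⟩ : q.primeCompl)
    obtain ⟨v, hv⟩ := hu
    rw [← hv] at h2
    have h3 := Submodule.smul_mem _ (v⁻¹ : Aqˣ).val h2
    rwa [smul_smul, Units.inv_mul, one_smul] at h3
  rw [hkr, Submodule.mem_bot, IsLocalizedModule.eq_zero_iff q.primeCompl] at hz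
  obtain ⟨⟨c, hc⟩, hct⟩ := hz
  exact hc ((hmem c).mpr hct)

end Main

end K123.SepAlg
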