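import Groth.Agent.EGA43.K123.SepAlg4

/-!
# Universally jointly injective families: the fibrewise criterion
-/

set_option autoImplicit false
set_option linter.style.haveILetI false
universe u v w x
open scoped TensorProduct

namespace K123.SepAlg

attribute [local instance] Algebra.TensorProduct.rightAlgebra

section

variable {R A : Type u} [CommRing R] [CommRing A] [Algebra R A]
  {M : Type u} [AddCommGroup M]
  [Module A M] [Module R M] [IsScalarTower R A M]
  {ι : Type u} {N : ι → Type u}
  [∀ i, AddCommGroup (N i)] [∀ i, Module A (N i)] [∀ i, Module R (N i)]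
  [∀ i, IsScalarTower R A (N i)]

omit [Module R M] [IsScalarTower R A M] [∀ i, Module R (N i)] [∀ i, IsScalarTower R A (N i)] in
/-- Field extension of a fibre. -/
theorem sep_ext (u : ∀ i, M →ₗ[A] N i) (K : Type u) [Field K] [Algebra R K]
    (h : Sep u (A ⊗[R] K)) (K' : Type u) [CommRing K'] [Algebra R K'] [Algebra K K']
    [IsScalarTower R K K'] : Sep u (A ⊗[R] K') := by
  have h1 := sep_field (k := K) (A := A ⊗[R] K) (fun i => (u i).baseChange (A ⊗[R] K)) h K'
  have h2 := (sep_baseChange_iff u (A ⊗[R] K) ((A ⊗[R] K) ⊗[K] K')).mp h1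
  exact h2.of_algEquiv (Algebra.IsPushout.cancelBaseChangeAlg R A K (A ⊗[R] K) K').symm

omit [Module R M] [IsScalarTower R A M] in
theorem sep_ft [IsNoetherianRing A] [Module.Finite A M] [∀ i, Module.Flat R (N i)]
    (u : ∀ i, M →ₗ[A] N i) (H : ∀ (p : Ideal R) [p.IsPrime], Sep u (A ⊗[R] p.ResidueField))
    (R' : Type u) [CommRing R'] [Algebra R R'] [Algebra.FiniteType R R'] :
    Sep u (A ⊗[R] R') := by
  have hft : Algebra.FiniteType A (A ⊗[R] R') := inferInstance
  have hN : IsNoetherianRing (A ⊗[R] R') := Algebra.FiniteType.isNoetherianRing A _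
  have hfl : ∀ i, Module.Flat R' ((A ⊗[R] R') ⊗[A] N i) := fun i =>
    Module.Flat.of_linearEquiv (Algebra.IsPushout.cancelBaseChange R R' A (A ⊗[R] R') (N i))
  refine jLoc_of_fibres (R := R') (A := A ⊗[R] R') (fun i => (u i).baseChange (A ⊗[R] R')) ?_
  intro p' _
  rw [sep_baseChange_iff]
  let p : Ideal R := p'.comap (algebraMap R R')
  have hp : p.IsPrime := Ideal.IsPrime.comap _
  let _ : Algebra p.ResidueField p'.ResidueField :=
    (Ideal.ResidueField.map p p' (algebraMap R R') rfl).toAlgebra
  have : IsScalarTower R p.ResidueField p'.ResidueField := by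
    refine IsScalarTower.of_algebraMap_eq fun r => ?_
    change _ = Ideal.ResidueField.map p p' (algebraMap R R') rfl _
    rw [Ideal.ResidueField.map_algebraMap]
    exact IsScalarTower.algebraMap_apply R R' p'.ResidueField r
  have h1 := sep_ext u p.ResidueField (H p) p'.ResidueField
  exact h1.of_algEquiv
    (Algebra.IsPushout.cancelBaseChangeAlg R A R' (A ⊗[R] R') p'.ResidueField)

omit [Module R M] [IsScalarTower R A M] in
theorem sep_univ [IsNoetherianRing A] [Module.Finite A M] [∀ i, Module.Flat R (N i)]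
    (u : ∀ i, M →ₗ[A] N i) (H : ∀ (p : Ideal R) [p.IsPrime], Sep u (A ⊗[R] p.ResidueField))
    (R' : Type u) [CommRing R'] [Algebra R R'] : Sep u (A ⊗[R] R') := by
  refine sep_of_fg u fun K₀ hK₀ => ?_
  have : Algebra.FiniteType R K₀ := (Subalgebra.fg_iff_finiteType K₀).mp hK₀
  exact sep_ft u H K₀

end

end K123.SepAlg
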