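import Groth.Agent.EGA43.K123.SepAlg2
import Groth.Agent.EGA43.K130.SepBasic
import Mathlib.AlgebraicGeometry.Morphisms.FinitePresentation
import Mathlib.AlgebraicGeometry.Morphisms.Flat

/-!
# Separating families on schemes: dictionary with the algebra

* `jLoc_of_secInj`: a family injective on sections over all opens of an affine open `U` gives a
  `JLoc` family on `Γ(F, U)`;
* `secInj_of_flat_lfp`: flat base change locally of finite presentation;
* `sep_chart_iff`: `Sep` over an affine chart in terms of `SecInj`.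
-/

set_option autoImplicit false
set_option linter.style.haveILetI false
universe u
open CategoryTheory CategoryTheory.Limits AlgebraicGeometry Opposite TopologicalSpace
open scoped TensorProduct

namespace K123.SepGeom

open K130.SepBasic K123.SepAlg Groth.Agent

variable {X Y : Scheme.{u}}

theorem map_app {F G : X.Modules} (u : F ⟶ G) {V W : X.Opens} (h : W ≤ V) (t : Γ(F, V)) :
    u.app W (F.presheaf.map (homOfLE h).op t) = G.presheaf.map (homOfLE h).op (u.app V t) :=
  congr($((Scheme.Modules.Hom.mapPresheaf u).naturality (homOfLE h).op) t)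

theorem map_smul_res {F : X.Modules} {V W : X.Opens} (h : W ≤ V) (a : Γ(X, V)) (t : Γ(F, V)) :
    F.presheaf.map (homOfLE h).op (a • t) =
      X.presheaf.map (homOfLE h).op a • F.presheaf.map (homOfLE h).op t :=
  Scheme.Modules.map_smul F (homOfLE h) a t

/-- A separating family gives a `JLoc` family on sections over an affine open. -/
theorem jLoc_of_secInj {F : X.Modules} (hF : Coh.IsQCoh F) {ι : Type u} {G : ι → X.Modules}
    (u : ∀ i, F ⟶ G i) {U : X.Opens} (hU : IsAffineOpen U) (h : ∀ V : X.Opens, V ≤ U → SecInj u V) :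
    JLoc (fun i => appₗ (u i) U) := by
  intro f m hm
  apply Fdesc.QCohStalk.exists_pow_smul_eq_zero F hU hF f m
  refine h _ (X.basicOpen_le f) _ fun i => ?_
  obtain ⟨k, hk⟩ := hm i
  change (u i).app _ _ = 0
  rw [map_app]
  have hk' : f ^ k • (u i).app U m = 0 := hk
  have h1 := congrArg ((G i).presheaf.map (homOfLE (X.basicOpen_le f)).op) hk'
  rw [map_smul_res, map_zero, map_pow] at h1
  have hu : IsUnit (X.presheaf.map (homOfLE (X.basicOpen_le f)).op f ^ k) :=
    (RingedSpace.isUnit_res_basicOpen _ f).pow k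
  exact (hu.smul_eq_zero).mp h1

/-- The pullback of a separating family along a flat morphism locally of finite presentation. -/
theorem secInj_of_flat_lfp (g : Y ⟶ X) [Flat g] [LocallyOfFinitePresentation g] {F : X.Modules}
    (hF : Coh.IsQCoh F) {ι : Type u} {G : ι → X.Modules} (hG : ∀ i, Coh.IsQCoh (G i))
    (u : ∀ i, F ⟶ G i) (h : ∀ V : X.Opens, SecInj u V) (W : Y.Opens) :
    SecInj (fun i => (Scheme.Modules.pullback g).map (u i)) W := by
  refine secInj_of_affine_over g _ (fun U V hU hV e => ?_) W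
  rw [secInj_pullback_iff g e hF hG u hU hV]
  let _ : Algebra Γ(X, U) Γ(Y, V) := (g.appLE U V e).hom.toAlgebra
  have : Module.Flat Γ(X, U) Γ(Y, V) := g.flat_appLE hU hV e
  have : Algebra.FinitePresentation Γ(X, U) Γ(Y, V) := g.finitePresentation_appLE hU hV e
  exact flat_fp _ (jLoc_of_secInj hF u hU fun V _ => h V)

/-- `Sep` over an affine chart. -/
theorem sep_chart_iff (g : Y ⟶ X) {U : X.Opens} {V : Y.Opens} (e : V ≤ g ⁻¹ᵁ U) {F : X.Modules}
    (hF : Coh.IsQCoh F) {ι : Type u} {G : ι → X.Modules} (hG : ∀ i, Coh.IsQCoh (G i))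
    (u : ∀ i, F ⟶ G i) (hU : IsAffineOpen U) (hV : IsAffineOpen V) :
    letI : Algebra Γ(X, U) Γ(Y, V) := (g.appLE U V e).hom.toAlgebra
    Sep (fun i => appₗ (u i) U) Γ(Y, V) ↔
      ∀ f : Γ(Y, V), SecInj (fun i => (Scheme.Modules.pullback g).map (u i)) (Y.basicOpen f) := by
  let j1 : Algebra Γ(X, U) Γ(Y, V) := (g.appLE U V e).hom.toAlgebra
  refine forall_congr' fun f => ?_
  have e' : Y.basicOpen f ≤ g ⁻¹ᵁ U := (Y.basicOpen_le f).trans e
  let j2 : Algebra Γ(X, U) Γ(Y, Y.basicOpen f) := (g.appLE U _ e').hom.toAlgebra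
  let j3 : Algebra Γ(Y, V) Γ(Y, Y.basicOpen f) := (Y.presheaf.map (homOfLE (Y.basicOpen_le f)).op).hom.toAlgebra
  have j4 : IsScalarTower Γ(X, U) Γ(Y, V) Γ(Y, Y.basicOpen f) := by
    refine IsScalarTower.of_algebraMap_eq' ?_
    have : g.appLE U _ e' = g.appLE U V e ≫ Y.presheaf.map (homOfLE (Y.basicOpen_le f)).op := by
      rw [Scheme.Hom.appLE_map]
    exact congrArg CommRingCat.Hom.hom this
  have j5 : IsLocalization.Away f Γ(Y, Y.basicOpen f) := hV.isLocalization_basicOpen f
  rw [secInj_pullback_iff g e' hF hG u hU (hV.basicOpen f)]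
  exact (away_iff (fun i => appₗ (u i) U) f).symm

end K123.SepGeom
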