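import Groth.Agent.EGA43.K123.SepGeom
import Groth.Agent.EGA43.K123.SepAlg5
import Mathlib.AlgebraicGeometry.Morphisms.Flat

/-!
# Separating families on fibre products: affine boxes
-/

set_option autoImplicit false
set_option linter.style.haveILetI false
universe u
open CategoryTheory CategoryTheory.Limits AlgebraicGeometry Opposite TopologicalSpace
open scoped TensorProduct

namespace K123.SepGeom

open K130.SepBasic K123.SepAlg Groth.Agent

theorem flat_of_isField {k : Type*} [CommRing k] (hk : IsField k) (N : Type*) [AddCommGroup N]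
    [Module k N] : Module.Flat k N := by
  letI := hk.toField
  exact inferInstance

/-- Base change over a field (with `IsField`). -/
theorem sep_isField {k A : Type u} [CommRing k] (hk : IsField k) [CommRing A] [Algebra k A]
    {M : Type u} [AddCommGroup M]
    [Module A M] {ι : Type u} {N : ι → Type u} [∀ i, AddCommGroup (N i)] [∀ i, Module A (N i)]
    (u : ∀ i, M →ₗ[A] N i) (hu : JLoc u) (K : Type u) [CommRing K] [Algebra k K] :
    Sep u (A ⊗[k] K) := by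
  let _ : ∀ i, Module k (N i) := fun i => Module.compHom (N i) (algebraMap k A)
  have : ∀ i, IsScalarTower k A (N i) := fun i => IsScalarTower.of_algebraMap_smul (fun r m => rfl)
  have : ∀ i, Module.Flat k (N i) := fun i => flat_of_isField hk _
  have : IsNoetherianRing k := by
    letI := hk.toField
    exact (inferInstance : IsNoetherianRing k)
  refine sep_of_fg u fun K₀ hK₀ => ?_
  have : Algebra.FiniteType k K₀ := (Subalgebra.fg_iff_finiteType K₀).mp hK₀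
  have : Algebra.FinitePresentation k K₀ := Algebra.FinitePresentation.of_finiteType.mp this
  have : Module.Flat k K₀ := flat_of_isField hk _
  exact sep_of_flat_fp u hu

section Box

variable {X Y S T : Scheme.{u}} {f : T ⟶ S} {g : Y ⟶ X} {iX : X ⟶ S} {iY : Y ⟶ T}
  (H : IsPullback g iY iX f)
  {US : S.Opens} {UT : T.Opens}
  {UX : X.Opens} (hUST : UT ≤ f ⁻¹ᵁ US) (hUSX : UX ≤ iX ⁻¹ᵁ US)
  {UY : Y.Opens} (hUY : UY = g ⁻¹ᵁ UX ⊓ iY ⁻¹ᵁ UT)

include H hUST hUSX hUY in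
theorem isAffineOpen_box (hUS : IsAffineOpen US) (hUT : IsAffineOpen UT)
    (hUX : IsAffineOpen UX) : IsAffineOpen UY := by
  have : IsAffine _ := hUS
  have : IsAffine _ := hUT
  have : IsAffine _ := hUX
  exact .of_isIso (Scheme.Hom.isPullback_resLE H hUST hUSX hUY).isoPullback.hom

include H hUY in
/-- `Sep` on an affine box. -/
theorem sep_box_iff (hUS : IsAffineOpen US) (hUT : IsAffineOpen UT) (hUX : IsAffineOpen UX)
    {F : X.Modules} (hF : Coh.IsQCoh F) {ι : Type u} {G : ι → X.Modules}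
    (hG : ∀ i, Coh.IsQCoh (G i)) (u : ∀ i, F ⟶ G i) :
    letI : Algebra Γ(S, US) Γ(X, UX) := (iX.appLE US UX hUSX).hom.toAlgebra
    letI : Algebra Γ(S, US) Γ(T, UT) := (f.appLE US UT hUST).hom.toAlgebra
    Sep (fun i => appₗ (u i) UX) (Γ(X, UX) ⊗[Γ(S, US)] Γ(T, UT)) ↔
      ∀ r : Γ(Y, UY), SecInj (fun i => (Scheme.Modules.pullback g).map (u i)) (Y.basicOpen r) := by
  let j1 : Algebra Γ(S, US) Γ(X, UX) := (iX.appLE US UX hUSX).hom.toAlgebra
  let j2 : Algebra Γ(S, US) Γ(T, UT) := (f.appLE US UT hUST).hom.toAlgebra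
  have hY := isAffineOpen_box H hUST hUSX hUY hUS hUT hUX
  have e1 : UY ≤ g ⁻¹ᵁ UX := by rw [hUY]; exact inf_le_left
  have e2 : UY ≤ iY ⁻¹ᵁ UT := by rw [hUY]; exact inf_le_right
  let j3 : Algebra Γ(X, UX) Γ(Y, UY) := (g.appLE UX UY e1).hom.toAlgebra
  let j4 : Algebra Γ(T, UT) Γ(Y, UY) := (iY.appLE UT UY e2).hom.toAlgebra
  let j5 : Algebra Γ(S, US) Γ(Y, UY) := (iX.appLE US UX hUSX ≫ g.appLE UX UY e1).hom.toAlgebra
  have t1 : IsScalarTower Γ(S, US) Γ(X, UX) Γ(Y, UY) := IsScalarTower.of_algebraMap_eq' rfl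
  have hw : iX.appLE US UX hUSX ≫ g.appLE UX UY e1 = f.appLE US UT hUST ≫ iY.appLE UT UY e2 := by
    simp only [Scheme.Hom.appLE_comp_appLE, H.w]
  have t2 : IsScalarTower Γ(S, US) Γ(T, UT) Γ(Y, UY) :=
    IsScalarTower.of_algebraMap_eq' (congrArg CommRingCat.Hom.hom hw)
  have hpo := (isIso_pushoutSection_iff H hUST hUSX hUY).mp
    (isIso_pushoutSection_of_isAffineOpen H hUST hUSX hUY hUS hUT hUX)
  have hpo' : Algebra.IsPushout Γ(S, US) Γ(X, UX) Γ(T, UT) Γ(Y, UY) :=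
    (CommRingCat.isPushout_iff_isPushout).mp hpo
  let e : Γ(X, UX) ⊗[Γ(S, US)] Γ(T, UT) ≃ₐ[Γ(X, UX)] Γ(Y, UY) :=
    Algebra.IsPushout.equiv Γ(S, US) Γ(X, UX) Γ(T, UT) Γ(Y, UY)
  rw [← sep_chart_iff g e1 hF hG u hUX hY]
  exact ⟨fun h => h.of_algEquiv e.symm, fun h => h.of_algEquiv e⟩

end Box

/-- The basic opens of the affine boxes form a basis of a fibre product. -/
theorem secInj_of_boxes {X Y S T : Scheme.{u}} {f : T ⟶ S} {g : Y ⟶ X} {iX : X ⟶ S} {iY : Y ⟶ T}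
    (H : IsPullback g iY iX f) (P : S.Opens → Prop)
    (hP : ∀ s : S, ∃ US : S.Opens, P US ∧ IsAffineOpen US ∧ s ∈ US)
    {F : Y.Modules} {ι : Type u} {G : ι → Y.Modules} (u : ∀ i, F ⟶ G i)
    (h : ∀ (US : S.Opens) (UT : T.Opens) (UX : X.Opens) (_ : P US) (_ : IsAffineOpen US)
      (_ : IsAffineOpen UT) (_ : IsAffineOpen UX) (_ : UT ≤ f ⁻¹ᵁ US) (_ : UX ≤ iX ⁻¹ᵁ US)
      (r : Γ(Y, g ⁻¹ᵁ UX ⊓ iY ⁻¹ᵁ UT)), SecInj u (Y.basicOpen r)) (W : Y.Opens) : SecInj u W := by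
  refine secInj_of_basis u {V | ∃ (US : S.Opens) (UT : T.Opens) (UX : X.Opens) (_ : P US)
      (_ : IsAffineOpen US)
      (_ : IsAffineOpen UT) (_ : IsAffineOpen UX) (_ : UT ≤ f ⁻¹ᵁ US) (_ : UX ≤ iX ⁻¹ᵁ US)
      (r : Γ(Y, g ⁻¹ᵁ UX ⊓ iY ⁻¹ᵁ UT)), V = Y.basicOpen r} ?_ ?_ W
  · intro V y hy
    obtain ⟨US, hPU, hUS, hs⟩ := hP (iX (g y))
    obtain ⟨UX, hUX, hxU, hle1⟩ := exists_isAffineOpen_mem_and_subset (X := X) (x := g y)
      (U := iX ⁻¹ᵁ US) hs
    have hs' : f (iY y) ∈ US := by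
      have : f (iY y) = iX (g y) := by
        rw [← Scheme.Hom.comp_apply, ← Scheme.Hom.comp_apply, H.w]
      rw [this]; exact hs
    obtain ⟨UT, hUT, htU, hle2⟩ := exists_isAffineOpen_mem_and_subset (X := T) (x := iY y)
      (U := f ⁻¹ᵁ US) hs'
    have hbox := isAffineOpen_box H hle2 hle1 rfl hUS hUT hUX
    have hyb : y ∈ g ⁻¹ᵁ UX ⊓ iY ⁻¹ᵁ UT := ⟨hxU, htU⟩
    obtain ⟨r, hr, hyr⟩ := hbox.exists_basicOpen_le ⟨y, hy⟩ hyb
    exact ⟨Y.basicOpen r, ⟨US, UT, UX, hPU, hUS, hUT, hUX, hle2, hle1, r, rfl⟩, hyr, hr⟩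
  · rintro _ ⟨US, UT, UX, hPU, hUS, hUT, hUX, hle2, hle1, r, rfl⟩
    exact h US UT UX hPU hUS hUT hUX hle2 hle1 r

/-- Separating families are stable under base change over a field. -/
theorem secInj_baseChange_field {k : Type u} [Field k] {X S' : Scheme.{u}}
    (p : X ⟶ Spec (CommRingCat.of k)) (q : S' ⟶ Spec (CommRingCat.of k))
    {F : X.Modules} (hF : Coh.IsQCoh F) {ι : Type u} {G : ι → X.Modules}
    (hG : ∀ i, Coh.IsQCoh (G i)) (u : ∀ i, F ⟶ G i) (h : ∀ V : X.Opens, SecInj u V)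
    (W : (pullback p q).Opens) :
    SecInj (fun i => (Scheme.Modules.pullback (pullback.fst p q)).map (u i)) W := by
  refine secInj_of_boxes (IsPullback.of_hasPullback p q) (fun V => V = ⊤)
    (fun s => ⟨⊤, rfl, isAffineOpen_top _, trivial⟩) _ ?_ W
  rintro _ UT UX rfl hUS hUT hUX hUST hUSX r
  revert r
  rw [← sep_box_iff (IsPullback.of_hasPullback p q) hUST hUSX rfl hUS hUT hUX hF hG u]
  let j1 : Algebra Γ(Spec (CommRingCat.of k), ⊤) Γ(X, UX) := (p.appLE ⊤ UX hUSX).hom.toAlgebra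
  let j2 : Algebra Γ(Spec (CommRingCat.of k), ⊤) Γ(S', UT) := (q.appLE ⊤ UT hUST).hom.toAlgebra
  have hk : IsField Γ(Spec (CommRingCat.of k), ⊤) :=
    MulEquiv.isField (Field.toIsField k)
      (Scheme.ΓSpecIso (CommRingCat.of k)).commRingCatIsoToRingEquiv.toMulEquiv
  exact sep_isField hk _ (jLoc_of_secInj hF u hUX fun V _ => h V) _

end K123.SepGeom
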