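import Groth.Agent.EGA43.K123.SepGeom2
import Groth.Agent.Flat2C.FlatSec
import Groth.Agent.Flat2C.FibreSections
import Groth.Agent.Ega3B.DevQC

/-!
# Universally separating families: the fibrewise criterion on schemes
-/

set_option autoImplicit false
set_option linter.style.haveILetI false
universe u
open CategoryTheory CategoryTheory.Limits AlgebraicGeometry Opposite TopologicalSpace
open scoped TensorProduct

namespace K123.SepGeom

open K130.SepBasic K123.SepAlg Groth.Agent

/-- Descent of `Sep` to the residue field. -/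
theorem sep_residueField {R A : Type u} [CommRing R] [CommRing A] [Algebra R A] {M : Type u}
    [AddCommGroup M] [Module A M] {ι : Type u} {N : ι → Type u} [∀ i, AddCommGroup (N i)]
    [∀ i, Module A (N i)] (u : ∀ i, M →ₗ[A] N i) (p : Ideal R) [p.IsPrime] (K : Type u)
    [CommRing K] [Nontrivial K] [Algebra R K] (h1 : ∀ r ∈ p, algebraMap R K r = 0)
    (h2 : ∀ r ∉ p, IsUnit (algebraMap R K r)) (h : Sep u (A ⊗[R] K)) :
    Sep u (A ⊗[R] p.ResidueField) := by
  let φ₀ : p.ResidueField →ₐ[R] K := Ideal.ResidueField.liftₐ p (Algebra.ofId R K)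
    (fun r hr => h1 r hr) (fun r hr => h2 r hr)
  let _ : Algebra p.ResidueField K := φ₀.toRingHom.toAlgebra
  have : IsScalarTower R p.ResidueField K :=
    IsScalarTower.of_algebraMap_eq fun r => (φ₀.commutes r).symm
  obtain ⟨ψ, hψ⟩ := LinearMap.exists_leftInverse_of_injective (Algebra.linearMap p.ResidueField K)
    (LinearMap.ker_eq_bot.mpr (algebraMap p.ResidueField K).injective)
  let φ : A ⊗[R] p.ResidueField →ₐ[A] A ⊗[R] K := Algebra.TensorProduct.map (AlgHom.id A A) φ₀
  let ψ' : A ⊗[R] K →ₗ[A] A ⊗[R] p.ResidueField :=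
    TensorProduct.AlgebraTensorModule.lTensor A A (ψ.restrictScalars R)
  have hcomp : ψ' ∘ₗ φ.toLinearMap = LinearMap.id := by
    apply TensorProduct.AlgebraTensorModule.ext
    intro a c
    have : ψ (φ₀ c) = c := LinearMap.congr_fun hψ c
    simp [ψ', φ, this]
  refine h.of_injective φ ?_
  refine Function.LeftInverse.injective (g := ψ'.rTensor M) fun t => ?_
  rw [← LinearMap.comp_apply, ← LinearMap.rTensor_comp, hcomp, LinearMap.rTensor_id]
  rfl

variable {X S : Scheme.{u}}

/-- `Sep` for the fibres. -/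
theorem sep_fibre (f : X ⟶ S) {F : X.Modules} (hF : Coh.IsQCoh F) {ι : Type u} {G : ι → X.Modules}
    (hG : ∀ i, Coh.IsQCoh (G i)) (u : ∀ i, F ⟶ G i)
    (h : ∀ (s : S) (V : (f.fiber s).Opens),
      SecInj (fun i => (Scheme.Modules.pullback (f.fiberι s)).map (u i)) V)
    {US : S.Opens} {UX : X.Opens} (hUS : IsAffineOpen US) (hUX : IsAffineOpen UX)
    (e : UX ≤ f ⁻¹ᵁ US) (p : Ideal Γ(S, US)) [hp : p.IsPrime] :
    letI : Algebra Γ(S, US) Γ(X, UX) := (f.appLE US UX e).hom.toAlgebra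
    Sep (fun i => appₗ (u i) UX) (Γ(X, UX) ⊗[Γ(S, US)] p.ResidueField) := by
  let j1 : Algebra Γ(S, US) Γ(X, UX) := (f.appLE US UX e).hom.toAlgebra
  obtain ⟨s, hs, hsp⟩ : ∃ (s : S) (hs : s ∈ US), hUS.primeIdealOf ⟨s, hs⟩ = ⟨p, hp⟩ :=
    Flat2C.FlatSec.exists_primeIdealOf hUS ⟨p, hp⟩
  have hmem : ∀ r : Γ(S, US), s ∈ S.basicOpen r ↔ r ∉ p := by
    intro r
    have h1 := Fdesc.QCohStalk.mem_basicOpen_iff hUS s hs r
    rw [hsp] at h1
    exact h1
  have hUST := Flat2C.FibreSections.top_le_fromSpecResidueField s hs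
  let K := Γ(Spec (S.residueField s), ⊤)
  let j2 : Algebra Γ(S, US) K := ((S.fromSpecResidueField s).appLE US ⊤ hUST).hom.toAlgebra
  have hinj : Function.Bijective (Scheme.ΓSpecIso (S.residueField s)).hom :=
    ConcreteCategory.bijective_of_isIso (Scheme.ΓSpecIso (S.residueField s)).hom
  have hev : ∀ r : Γ(S, US), (Scheme.ΓSpecIso (S.residueField s)).hom (algebraMap Γ(S, US) K r) =
      S.evaluation US s hs r := fun r =>
    congr($(Flat2C.FibreSections.appLE_fromSpecResidueField s hs) r)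
  have hnt : Nontrivial K :=
    (RingHom.domain_nontrivial (Scheme.ΓSpecIso (S.residueField s)).hom.hom)
  have hH : IsPullback (f.fiberι s) (f.fiberToSpecResidueField s) f (S.fromSpecResidueField s) :=
    IsPullback.of_hasPullback _ _
  refine sep_residueField _ p K ?_ ?_ ?_
  · intro r hr
    apply hinj.1
    rw [hev, map_zero]
    by_contra hne
    exact (hmem r).mp ((Scheme.evaluation_ne_zero_iff_mem_basicOpen _ _ _ _).mp hne) hr
  · intro r hr
    have h1 : S.evaluation US s hs r ≠ 0 :=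
      (Scheme.evaluation_ne_zero_iff_mem_basicOpen _ _ _ _).mpr ((hmem r).mpr hr)
    rw [← hev] at h1
    have h2 : IsUnit ((Scheme.ΓSpecIso (S.residueField s)).hom (algebraMap Γ(S, US) K r)) :=
      h1.isUnit
    exact (isUnit_map_iff (Scheme.ΓSpecIso (S.residueField s)).commRingCatIsoToRingEquiv _).mp h2
  · exact (sep_box_iff hH hUST e rfl hUS (isAffineOpen_top _) hUX hF hG u).mpr fun r => h s _

/-- The fibrewise criterion. -/
theorem secInj_univ_of_fibres [IsLocallyNoetherian X] (f : X ⟶ S) {F : X.Modules}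
    (hF : Coh.IsCoh F) {ι : Type u} {G : ι → X.Modules}
    (hG : ∀ i, Coh.IsQCoh (G i)) (hGf : ∀ i, FlatMod.IsFlatOver f (G i)) (u : ∀ i, F ⟶ G i)
    (h : ∀ (s : S) (V : (f.fiber s).Opens),
      SecInj (fun i => (Scheme.Modules.pullback (f.fiberι s)).map (u i)) V)
    {S' : Scheme.{u}} (g : S' ⟶ S) (W : (pullback f g).Opens) :
    SecInj (fun i => (Scheme.Modules.pullback (pullback.fst f g)).map (u i)) W := by
  refine secInj_of_boxes (IsPullback.of_hasPullback f g) (fun V => True)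
    (fun s => ?_) _ ?_ W
  · obtain ⟨US, hUS, hs, -⟩ := exists_isAffineOpen_mem_and_subset (X := S) (x := s) (U := ⊤) trivial
    exact ⟨US, trivial, hUS, hs⟩
  · rintro US UT UX - hUS hUT hUX hUST hUSX r
    revert r
    rw [← sep_box_iff (IsPullback.of_hasPullback f g) hUST hUSX rfl hUS hUT hUX hF.1 hG u]
    let j1 : Algebra Γ(S, US) Γ(X, UX) := (f.appLE US UX hUSX).hom.toAlgebra
    let j2 : Algebra Γ(S, US) Γ(S', UT) := (g.appLE US UT hUST).hom.toAlgebra
    have hN : IsNoetherianRing Γ(X, UX) := IsLocallyNoetherian.component_noetherian ⟨UX, hUX⟩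
    have hfin : Module.Finite Γ(X, UX) Γ(F, UX) := Ega3B.DevQC.finite_sections hF hUX
    let j3 : ∀ i, Module Γ(S, US) Γ(G i, UX) := fun i => Flat2C.FlatSec.moduleOver f (G i) hUSX
    have j4 : ∀ i, IsScalarTower Γ(S, US) Γ(X, UX) Γ(G i, UX) := fun i =>
      Flat2C.FlatSec.isScalarTower_over f (G i) hUSX
    have hfl : ∀ i, Module.Flat Γ(S, US) Γ(G i, UX) := fun i =>
      (Flat2C.FlatSec.flat_sections_iff f (G i) hUX hUS hUSX (hG i)).mpr fun x _ => hGf i x
    refine sep_univ (R := Γ(S, US)) (A := Γ(X, UX)) (fun i => appₗ (u i) UX) ?_ _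
    intro p _
    exact sep_fibre f hF.1 hG u h hUS hUX hUSX p

end K123.SepGeom
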