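import Mathlib.Topology.LocallyClosed
import Mathlib.Topology.Constructible
import Mathlib.Data.List.TFAE

/-!
# Very dense subsets and (locally) quasi-constructible subsets

`QC Z`: finite union of locally closed subsets. `LQC Z`: locally so.
Key lemmas: `QC.union`, `QC.inter`, `QC.compl`, `LQC.of_qc`, `LQC.inter`, `LQC.diff`,
`qc_ext_of_veryDense`, `lqc_ext_of_veryDense`, `lqc_nonempty_inter_of_veryDense`,
`exists_lqc_extension`, `isCompact_preimage_iff`.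
-/

set_option autoImplicit false
universe u

namespace K123.VeryDense

variable {X Y : Type u} [TopologicalSpace X] [TopologicalSpace Y]

/-- finite union of locally closed subsets -/
def QC (Z : Set X) : Prop :=
  ∃ T : Set (Set X), T.Finite ∧ (∀ t ∈ T, IsLocallyClosed t) ∧ Z = ⋃₀ T

/-- locally quasi-constructible -/
def LQC (Z : Set X) : Prop :=
  ∀ x : X, ∃ U : Set X, IsOpen U ∧ x ∈ U ∧
    ∃ T : Set (Set X), T.Finite ∧ (∀ t ∈ T, IsLocallyClosed t) ∧ U ∩ Z = ⋃₀ T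

theorem lqc_iff {Z : Set X} : LQC Z ↔ ∀ x : X, ∃ U : Set X, IsOpen U ∧ x ∈ U ∧ QC (U ∩ Z) := Iff.rfl

theorem QC.of_isLocallyClosed {Z : Set X} (h : IsLocallyClosed Z) : QC Z :=
  ⟨{Z}, Set.finite_singleton Z, by simpa using h, by simp⟩

theorem QC.empty : QC (∅ : Set X) := ⟨∅, Set.finite_empty, by simp, by simp⟩

theorem QC.union {Z W : Set X} (h : QC Z) (h' : QC W) : QC (Z ∪ W) := by
  obtain ⟨T, hT, hT', rfl⟩ := h
  obtain ⟨T2, hT2, hT2', rfl⟩ := h'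
  refine ⟨T ∪ T2, hT.union hT2, ?_, by rw [Set.sUnion_union]⟩
  rintro t (ht | ht)
  · exact hT' t ht
  · exact hT2' t ht

theorem QC.sUnion {T : Set (Set X)} (hT : T.Finite) (h : ∀ t ∈ T, QC t) : QC (⋃₀ T) := by
  induction T, hT using Set.Finite.induction_on with
  | empty => simpa using QC.empty
  | insert _ _ ih =>
    rw [Set.sUnion_insert]
    exact (h _ (Set.mem_insert _ _)).union (ih (fun t ht => h t (Set.mem_insert_of_mem _ ht)))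

theorem QC.inter {Z W : Set X} (h : QC Z) (h' : QC W) : QC (Z ∩ W) := by
  obtain ⟨T, hT, hT', rfl⟩ := h
  obtain ⟨T2, hT2, hT2', rfl⟩ := h'
  refine ⟨Set.image2 (fun a b => a ∩ b) T T2, hT.image2 _ hT2, ?_, ?_⟩
  · rintro t ⟨a, ha, b, hb, rfl⟩
    exact (hT' a ha).inter (hT2' b hb)
  · ext x
    simp only [Set.mem_inter_iff, Set.mem_sUnion, Set.mem_image2]
    constructor
    · rintro ⟨⟨a, ha, hxa⟩, ⟨b, hb, hxb⟩⟩
      exact ⟨a ∩ b, ⟨a, ha, b, hb, rfl⟩, hxa, hxb⟩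
    · rintro ⟨_, ⟨a, ha, b, hb, rfl⟩, hxa, hxb⟩
      exact ⟨⟨a, ha, hxa⟩, ⟨b, hb, hxb⟩⟩

theorem QC.of_isOpen {U : Set X} (h : IsOpen U) : QC U := QC.of_isLocallyClosed h.isLocallyClosed
theorem QC.of_isClosed {U : Set X} (h : IsClosed U) : QC U := QC.of_isLocallyClosed h.isLocallyClosed

theorem QC.univ : QC (Set.univ : Set X) := QC.of_isOpen isOpen_univ

theorem QC.compl_of_isLocallyClosed {Z : Set X} (h : IsLocallyClosed Z) : QC Zᶜ := by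
  obtain ⟨U, V, hU, hV, rfl⟩ := h
  rw [Set.compl_inter]
  exact (QC.of_isClosed hU.isClosed_compl).union (QC.of_isOpen hV.isOpen_compl)

theorem QC.compl {Z : Set X} (h : QC Z) : QC Zᶜ := by
  obtain ⟨T, hT, hT', rfl⟩ := h
  induction T, hT using Set.Finite.induction_on with
  | empty => simpa using QC.univ
  | insert _ _ ih =>
    rw [Set.sUnion_insert, Set.compl_union]
    exact (QC.compl_of_isLocallyClosed (hT' _ (Set.mem_insert _ _))).inter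
      (ih (fun t ht => hT' t (Set.mem_insert_of_mem _ ht)))

theorem QC.diff {Z W : Set X} (h : QC Z) (h' : QC W) : QC (Z \ W) := h.inter h'.compl

theorem LQC.of_qc {Z : Set X} (h : QC Z) : LQC Z :=
  fun _ => ⟨Set.univ, isOpen_univ, trivial, by simpa [QC] using h⟩

theorem LQC.inter {Z W : Set X} (h : LQC Z) (h' : LQC W) : LQC (Z ∩ W) := by
  intro x
  obtain ⟨U, hU, hxU, hQ⟩ := h x
  obtain ⟨V, hV, hxV, hQ'⟩ := h' x
  refine ⟨U ∩ V, hU.inter hV, ⟨hxU, hxV⟩, ?_⟩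
  have : QC ((U ∩ Z) ∩ (V ∩ W)) := QC.inter hQ hQ'
  rwa [show (U ∩ Z) ∩ (V ∩ W) = (U ∩ V) ∩ (Z ∩ W) from by ext; simp; tauto] at this

theorem LQC.diff {Z W : Set X} (h : LQC Z) (h' : LQC W) : LQC (Z \ W) := by
  intro x
  obtain ⟨U, hU, hxU, hQ⟩ := h x
  obtain ⟨V, hV, hxV, hQ'⟩ := h' x
  refine ⟨U ∩ V, hU.inter hV, ⟨hxU, hxV⟩, ?_⟩
  have : QC (((U ∩ Z) ∩ V) \ (V ∩ W)) := QC.diff (QC.inter hQ (QC.of_isOpen hV)) hQ'
  rwa [show ((U ∩ Z) ∩ V) \ (V ∩ W) = (U ∩ V) ∩ (Z \ W) from by ext; simp; tauto] at this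

/-- A nonempty locally quasi-constructible set meets a very dense set. -/
theorem lqc_nonempty_inter_of_veryDense {X₀ : Set X}
    (h : ∀ Z : Set X, IsLocallyClosed Z → Z.Nonempty → (Z ∩ X₀).Nonempty)
    {Z : Set X} (hZ : LQC Z) (hne : Z.Nonempty) : (Z ∩ X₀).Nonempty := by
  obtain ⟨x, hx⟩ := hne
  obtain ⟨U, hU, hxU, T, hT, hT', e⟩ := hZ x
  have : x ∈ ⋃₀ T := e ▸ ⟨hxU, hx⟩
  obtain ⟨t, ht, hxt⟩ := this
  obtain ⟨y, hyt, hy⟩ := h t (hT' t ht) ⟨x, hxt⟩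
  have : y ∈ U ∩ Z := e ▸ ⟨t, ht, hyt⟩
  exact ⟨y, this.2, hy⟩

theorem lqc_subset_of_veryDense {X₀ : Set X}
    (h : ∀ Z : Set X, IsLocallyClosed Z → Z.Nonempty → (Z ∩ X₀).Nonempty)
    {Z W : Set X} (hZ : LQC Z) (hW : LQC W) (hZW : Z ∩ X₀ ⊆ W ∩ X₀) : Z ⊆ W := by
  by_contra hcon
  obtain ⟨x, hx, hxW⟩ := Set.not_subset.mp hcon
  obtain ⟨y, ⟨hy1, hy2⟩, hy⟩ := lqc_nonempty_inter_of_veryDense h (hZ.diff hW) ⟨x, hx, hxW⟩
  exact hy2 (hZW ⟨hy1, hy⟩).1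

theorem lqc_ext_of_veryDense {X₀ : Set X}
    (h : ∀ Z : Set X, IsLocallyClosed Z → Z.Nonempty → (Z ∩ X₀).Nonempty)
    {Z W : Set X} (hZ : LQC Z) (hW : LQC W) (hZW : Z ∩ X₀ = W ∩ X₀) : Z = W :=
  (lqc_subset_of_veryDense h hZ hW hZW.subset).antisymm
    (lqc_subset_of_veryDense h hW hZ hZW.superset)

theorem exists_qc_extension {X₀ : Set X} {W : Set ↥X₀} (hW : QC W) :
    ∃ Z : Set X, QC Z ∧ Subtype.val ⁻¹' Z = W := by
  obtain ⟨T, hT, hT', rfl⟩ := hW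
  have key : ∀ t : Set ↥X₀, ∃ t' : Set X, t ∈ T → IsLocallyClosed t' ∧ Subtype.val ⁻¹' t' = t := by
    intro t
    by_cases ht : t ∈ T
    · obtain ⟨U, V, hU, hV, rfl⟩ := hT' t ht
      obtain ⟨U', hU', rfl⟩ := isOpen_induced_iff.mp hU
      obtain ⟨V', hV', rfl⟩ := isClosed_induced_iff.mp hV
      exact ⟨U' ∩ V', fun _ => ⟨⟨U', V', hU', hV', rfl⟩, rfl⟩⟩
    · exact ⟨∅, fun h => absurd h ht⟩
  choose g hg using key
  refine ⟨⋃₀ (g '' T), ⟨g '' T, hT.image g, ?_, rfl⟩, ?_⟩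
  · rintro _ ⟨t, ht, rfl⟩
    exact (hg t ht).1
  · ext x
    simp only [Set.sUnion_image, Set.preimage_iUnion, Set.mem_iUnion, Set.mem_sUnion]
    constructor
    · rintro ⟨t, ht, hx⟩
      exact ⟨t, ht, (hg t ht).2 ▸ hx⟩
    · rintro ⟨t, ht, hx⟩
      refine ⟨t, ht, ?_⟩
      rw [(hg t ht).2]
      exact hx

theorem exists_lqc_extension {X₀ : Set X}
    (h : ∀ Z : Set X, IsLocallyClosed Z → Z.Nonempty → (Z ∩ X₀).Nonempty)
    {Z₀ : Set ↥X₀} (hZ₀ : LQC Z₀) : ∃ Z : Set X, LQC Z ∧ Subtype.val ⁻¹' Z = Z₀ := by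
  have key : ∀ x : ↥X₀, ∃ V Z : Set X, IsOpen V ∧ x.1 ∈ V ∧ Z ⊆ V ∧ QC Z ∧
      ∀ y : ↥X₀, y.1 ∈ Z ↔ (y.1 ∈ V ∧ y ∈ Z₀) := by
    intro x
    obtain ⟨U, hU, hxU, hQ⟩ := hZ₀ x
    obtain ⟨V, hV, rfl⟩ := isOpen_induced_iff.mp hU
    obtain ⟨Z, hZ, hZe⟩ := exists_qc_extension hQ
    refine ⟨V, V ∩ Z, hV, hxU, Set.inter_subset_left, (QC.of_isOpen hV).inter hZ, fun y => ?_⟩
    have : y ∈ Subtype.val ⁻¹' Z ↔ y ∈ Subtype.val ⁻¹' V ∩ Z₀ := by rw [hZe]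
    simp only [Set.mem_preimage, Set.mem_inter_iff] at this ⊢
    tauto
  choose V Z hV hxV hZV hQ hmem using key
  have hcov : (⋃ x, V x) = Set.univ := by
    refine lqc_ext_of_veryDense h (LQC.of_qc (QC.of_isOpen (isOpen_iUnion hV)))
      (LQC.of_qc QC.univ) ?_
    ext y
    simp only [Set.mem_inter_iff, Set.mem_iUnion, Set.mem_univ, true_and, and_iff_right_iff_imp]
    intro hy
    exact ⟨⟨y, hy⟩, hxV ⟨y, hy⟩⟩
  have hcompat : ∀ x y, V y ∩ Z x = V x ∩ Z y := by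
    intro x y
    refine lqc_ext_of_veryDense h (LQC.of_qc ((QC.of_isOpen (hV y)).inter (hQ x)))
      (LQC.of_qc ((QC.of_isOpen (hV x)).inter (hQ y))) ?_
    ext z
    simp only [Set.mem_inter_iff]
    constructor
    · rintro ⟨⟨hz1, hz2⟩, hz⟩
      have := (hmem x ⟨z, hz⟩).mp hz2
      exact ⟨⟨this.1, (hmem y ⟨z, hz⟩).mpr ⟨hz1, this.2⟩⟩, hz⟩
    · rintro ⟨⟨hz1, hz2⟩, hz⟩
      have := (hmem y ⟨z, hz⟩).mp hz2
      exact ⟨⟨this.1, (hmem x ⟨z, hz⟩).mpr ⟨hz1, this.2⟩⟩, hz⟩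
  refine ⟨⋃ x, Z x, ?_, ?_⟩
  · intro z
    have hz : z ∈ ⋃ x, V x := hcov ▸ Set.mem_univ z
    obtain ⟨y, hy⟩ := Set.mem_iUnion.mp hz
    refine ⟨V y, hV y, hy, ?_⟩
    have e : V y ∩ ⋃ x, Z x = Z y := by
      ext w
      constructor
      · rintro ⟨hw1, hw2⟩
        obtain ⟨x, hx⟩ := Set.mem_iUnion.mp hw2
        have : w ∈ V y ∩ Z x := ⟨hw1, hx⟩
        rw [hcompat x y] at this
        exact this.2
      · intro hw
        exact ⟨hZV y hw, Set.mem_iUnion.mpr ⟨y, hw⟩⟩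
    rw [e]
    exact hQ y
  · ext y
    simp only [Set.mem_preimage, Set.mem_iUnion]
    constructor
    · rintro ⟨x, hx⟩
      exact ((hmem x y).mp hx).2
    · intro hy
      exact ⟨y, (hmem y y).mpr ⟨hxV y, hy⟩⟩

omit [TopologicalSpace X] in
/-- The image of a quasi-homeomorphism is very dense. -/
theorem veryDense_range_of_injective {f : X → Y}
    (hq : ∀ U V : Set Y, IsOpen U → IsOpen V → f ⁻¹' U = f ⁻¹' V → U = V) :
    ∀ Z : Set Y, IsLocallyClosed Z → Z.Nonempty → (Z ∩ Set.range f).Nonempty := by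
  rintro Z ⟨U, C, hU, hC, rfl⟩ ⟨z, hzU, hzC⟩
  by_contra hne
  have : U = U ∩ Cᶜ := by
    refine hq _ _ hU (hU.inter hC.isOpen_compl) ?_
    ext x
    simp only [Set.mem_preimage, Set.mem_inter_iff, Set.mem_compl_iff]
    constructor
    · intro hx
      exact ⟨hx, fun hxC => hne ⟨f x, ⟨hx, hxC⟩, ⟨x, rfl⟩⟩⟩
    · exact fun hx => hx.1
  have h2 : z ∈ U ∩ Cᶜ := this ▸ hzU
  exact h2.2 hzC

theorem subset_iff_preimage {f : X → Y}
    (hq : ∀ U V : Set Y, IsOpen U → IsOpen V → f ⁻¹' U = f ⁻¹' V → U = V)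
    {Z W : Set Y} (hZ : LQC Z) (hW : LQC W) : Z ⊆ W ↔ f ⁻¹' Z ⊆ f ⁻¹' W := by
  refine ⟨fun h => Set.preimage_mono h, fun h => ?_⟩
  refine lqc_subset_of_veryDense (veryDense_range_of_injective hq) hZ hW ?_
  rintro _ ⟨hy, ⟨x, rfl⟩⟩
  exact ⟨h hy, ⟨x, rfl⟩⟩

theorem isCompact_preimage_iff {f : X → Y} (hf : Continuous f)
    (hq : ∀ U V : Set Y, IsOpen U → IsOpen V → f ⁻¹' U = f ⁻¹' V → U = V)
    (hs : ∀ V : Set X, IsOpen V → ∃ U : Set Y, IsOpen U ∧ f ⁻¹' U = V)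
    {Z : Set Y} (hZ : LQC Z) : IsCompact (f ⁻¹' Z) ↔ IsCompact Z := by
  rw [isCompact_iff_finite_subcover, isCompact_iff_finite_subcover]
  constructor
  · intro h ι U hU hcov
    obtain ⟨t, ht⟩ := @h ι (fun i => f ⁻¹' (U i)) (fun i => (hU i).preimage hf) (by
      rw [← Set.preimage_iUnion]; exact Set.preimage_mono hcov)
    have ho : IsOpen (⋃ i ∈ t, U i) := isOpen_biUnion fun i _ => hU i
    refine ⟨t, (subset_iff_preimage hq hZ (LQC.of_qc (QC.of_isOpen ho))).mpr ?_⟩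
    simpa only [Set.preimage_iUnion] using ht
  · intro h ι V hV hcov
    choose g hg hge using fun i => hs (V i) (hV i)
    obtain ⟨t, ht⟩ := @h ι g hg (by
      rw [subset_iff_preimage hq hZ (LQC.of_qc (QC.of_isOpen (isOpen_iUnion hg)))]
      simpa only [Set.preimage_iUnion, hge] using hcov)
    refine ⟨t, ?_⟩
    have := Set.preimage_mono (f := f) ht
    simpa only [Set.preimage_iUnion, hge] using this

end K123.VeryDense
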